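import Mathlib.RingTheory.FinitePresentation
import Mathlib.RingTheory.Flat.Basic
import Mathlib.RingTheory.Flat.TorsionFree
import Mathlib.RingTheory.Idempotents
import Mathlib.RingTheory.Jacobson.Ideal
import Mathlib.RingTheory.LocalRing.ResidueField.Ideal
import Mathlib.Algebra.MvPolynomial.Rename

/-!
# Square presentations

`IsSq A C` : the `A`-algebra `C` is a quotient of a polynomial ring in finitely many variables by as many
equations as variables.
-/

set_option autoImplicit false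

universe u

open MvPolynomial

namespace TateLib

/-- A square presentation of `C` over `A`. -/
def IsSq (A : Type u) [CommRing A] (C : Type u) [CommRing C] [Algebra A C] : Prop :=
  ∃ (ι : Type) (_ : Fintype ι) (φ : MvPolynomial ι A →ₐ[A] C) (f : ι → MvPolynomial ι A),
    Function.Surjective φ ∧ RingHom.ker φ.toRingHom = Ideal.span (Set.range f)

variable {A : Type u} [CommRing A]

theorem IsSq.exists_fin {C : Type u} [CommRing C] [Algebra A C] (h : IsSq A C) :
    ∃ (n : ℕ) (φ : MvPolynomial (Fin n) A →ₐ[A] C) (f : Fin n → MvPolynomial (Fin n) A),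
      Function.Surjective φ ∧ RingHom.ker φ.toRingHom = Ideal.span (Set.range f) := by
  obtain ⟨ι, _, φ, f, hφ, hker⟩ := h
  let e := Fintype.equivFin ι
  let E := renameEquiv A e
  refine ⟨Fintype.card ι, φ.comp E.symm.toAlgHom, fun j => E (f (e.symm j)), hφ.comp E.symm.surjective, ?_⟩
  show RingHom.ker (φ.toRingHom.comp E.symm.toAlgHom.toRingHom) = _
  rw [← RingHom.comap_ker, hker]
  ext p
  rw [Ideal.mem_comap]
  constructor
  · intro hp
    have := Ideal.mem_map_of_mem E.toAlgHom.toRingHom hp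
    rw [Ideal.map_span, ← Set.range_comp] at this
    rw [show E.toAlgHom.toRingHom (E.symm.toAlgHom.toRingHom p) = p from E.apply_symm_apply p] at this
    refine Ideal.span_mono ?_ this
    rintro _ ⟨i, rfl⟩
    exact ⟨e i, congrArg (fun k => E (f k)) (e.symm_apply_apply i)⟩
  · intro hp
    have := Ideal.mem_map_of_mem E.symm.toAlgHom.toRingHom hp
    rw [Ideal.map_span, ← Set.range_comp] at this
    refine Ideal.span_mono ?_ this
    rintro _ ⟨j, rfl⟩
    exact ⟨e.symm j, (E.symm_apply_apply _).symm⟩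

theorem IsSq.of_algEquiv {C D : Type u} [CommRing C] [Algebra A C] [CommRing D] [Algebra A D]
    (h : IsSq A C) (e : C ≃ₐ[A] D) : IsSq A D := by
  obtain ⟨ι, i, φ, f, hφ, hker⟩ := h
  refine ⟨ι, i, e.toAlgHom.comp φ, f, e.surjective.comp hφ, ?_⟩
  rw [← hker]
  ext p
  exact e.map_eq_zero_iff

theorem isSq_of_subsingleton (C : Type u) [CommRing C] [Algebra A C] [Subsingleton C] : IsSq A C := by
  refine ⟨Unit, inferInstance, aeval fun _ => 0, fun _ => 1, fun x => ⟨0, Subsingleton.elim _ _⟩, ?_⟩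
  rw [Set.range_const, Ideal.span_singleton_one]
  exact eq_top_iff.2 fun p _ => RingHom.mem_ker.2 (Subsingleton.elim _ _)

/-- The kernel of a presentation, computed through a section on the variables. -/
theorem ker_le_of_section {ι : Type} {C : Type u} [CommRing C] [Algebra A C]
    (Φ : MvPolynomial ι A →ₐ[A] C) (J : Ideal (MvPolynomial ι A))
    (ψ : C →ₐ[A] MvPolynomial ι A ⧸ J) (h : ∀ v, ψ (Φ (X v)) = Ideal.Quotient.mk J (X v)) :
    RingHom.ker Φ.toRingHom ≤ J := fun p hp => by
  have h2 : ψ.comp Φ = Ideal.Quotient.mkₐ A J := MvPolynomial.algHom_ext fun v => h v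
  refine Ideal.Quotient.eq_zero_iff_mem.1 ?_
  rw [← Ideal.Quotient.mkₐ_eq_mk A, ← h2, AlgHom.comp_apply, show Φ p = 0 from hp, map_zero]

/-- Quotients by idempotents keep square presentations. -/
theorem IsSq.idem {C : Type u} [CommRing C] [Algebra A C] (h : IsSq A C) {e : C} (he : IsIdempotentElem e) :
    IsSq A (C ⧸ Ideal.span {1 - e}) := by
  obtain ⟨ι, _, φ, f, hφ, hker⟩ := h
  let C' := C ⧸ Ideal.span {1 - e}
  let π : C →ₐ[A] C' := Ideal.Quotient.mkₐ A _
  have he1 : π e = 1 := by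
    rw [← sub_eq_zero, ← map_one π, ← map_sub]
    refine Ideal.Quotient.eq_zero_iff_mem.2 ?_
    rw [show e - 1 = -(1 - e) by ring]
    exact neg_mem (Ideal.mem_span_singleton_self _)
  obtain ⟨p, hp⟩ := hφ e
  let Φ : MvPolynomial (ι ⊕ Unit) A →ₐ[A] C' := aeval (Sum.elim (fun i => π (φ (X i))) fun _ => 1)
  have hΦ : ∀ q, Φ (rename Sum.inl q) = π (φ q) := fun q => by
    rw [aeval_rename, Sum.elim_comp_inl, ← comp_aeval_apply (φ := π) (fun i => φ (X i))]
    exact congrArg π (DFunLike.congr_fun (aeval_unique φ).symm q)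
  let F : ι ⊕ Unit → MvPolynomial (ι ⊕ Unit) A :=
    Sum.elim (fun i => rename Sum.inl (f i)) fun u => rename Sum.inl p * X (Sum.inr u) - 1
  refine ⟨ι ⊕ Unit, inferInstance, Φ, F, ?_, le_antisymm ?_ (Ideal.span_le.2 ?_)⟩
  · intro c
    obtain ⟨c, rfl⟩ := Ideal.Quotient.mk_surjective c
    obtain ⟨q, rfl⟩ := hφ c
    exact ⟨rename Sum.inl q, hΦ q⟩
  · let J := Ideal.span (Set.range F)
    let γ : MvPolynomial ι A →ₐ[A] MvPolynomial (ι ⊕ Unit) A ⧸ J :=
      (Ideal.Quotient.mkₐ A J).comp (rename Sum.inl)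
    have hγ : ∀ q ∈ RingHom.ker φ.toRingHom, γ q = 0 := by
      intro q hq
      rw [hker] at hq
      refine (Ideal.span_le (I := RingHom.ker γ.toRingHom)).2 ?_ hq
      rintro _ ⟨i, rfl⟩
      exact Ideal.Quotient.eq_zero_iff_mem.2 (Ideal.subset_span ⟨Sum.inl i, rfl⟩)
    let β : C →ₐ[A] MvPolynomial (ι ⊕ Unit) A ⧸ J := (Ideal.Quotient.liftₐ _ γ hγ).comp
      (Ideal.quotientKerAlgEquivOfSurjective (f := φ) hφ).symm.toAlgHom
    have hβ : ∀ q, β (φ q) = γ q := fun q => by
      show Ideal.Quotient.liftₐ _ γ hγ ((Ideal.quotientKerAlgEquivOfSurjective hφ).symm (φ q)) = γ q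
      rw [Ideal.quotientKerAlgEquivOfSurjective_symm_apply]
      rfl
    have hu : Ideal.Quotient.mk J (rename Sum.inl p) * Ideal.Quotient.mk J (X (Sum.inr ())) = 1 := by
      rw [← map_mul, ← map_one (Ideal.Quotient.mk J), Ideal.Quotient.eq]
      exact Ideal.subset_span ⟨Sum.inr (), rfl⟩
    have hβe : β e = 1 := by
      have h2 : β e * β e = β e := by rw [← map_mul, he.eq]
      have h3 : IsUnit (β e) := by
        rw [← hp, hβ]
        exact IsUnit.of_mul_eq_one _ hu
      exact h3.mul_eq_left.1 h2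
    refine ker_le_of_section Φ J (Ideal.Quotient.liftₐ _ β fun c hc => ?_) fun v => ?_
    · obtain ⟨d, rfl⟩ := Ideal.mem_span_singleton'.1 hc
      rw [map_mul, map_sub, map_one, hβe, sub_self, mul_zero]
    · cases v with
      | inl i =>
        rw [show Φ (X (Sum.inl i)) = π (φ (X i)) from aeval_X _ _]
        exact (hβ (X i)).trans (congrArg _ (rename_X _ _))
      | inr u =>
        rw [show Φ (X (Sum.inr u)) = 1 from aeval_X _ _, map_one]
        rw [← hp, hβ] at hβe
        rw [show γ p = Ideal.Quotient.mk J (rename Sum.inl p) from rfl] at hβe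
        rw [hβe, one_mul] at hu
        exact hu.symm
  · rintro _ ⟨v, rfl⟩
    show Φ (F v) = 0
    cases v with
    | inl i =>
      rw [show F (Sum.inl i) = rename Sum.inl (f i) from rfl, hΦ,
        show φ (f i) = 0 from RingHom.mem_ker.1 (hker.ge (Ideal.subset_span ⟨i, rfl⟩)), map_zero]
    | inr u =>
      rw [show F (Sum.inr u) = rename Sum.inl p * X (Sum.inr u) - 1 from rfl, map_sub, map_mul, hΦ, hp, he1,
        map_one, one_mul, show Φ (X (Sum.inr u)) = 1 from aeval_X _ _, sub_self]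

/-- Gluing along an idempotent. -/
theorem isSq_glue {C : Type u} [CommRing C] [Algebra A C] {e : C} (he : IsIdempotentElem e)
    (h1 : IsSq A (C ⧸ Ideal.span {1 - e})) (h2 : IsSq A (C ⧸ Ideal.span {e})) : IsSq A C := by
  classical
  obtain ⟨ι₁, _, φ₁, f₁, hφ₁, hker₁⟩ := h1
  obtain ⟨ι₂, _, φ₂, f₂, hφ₂, hker₂⟩ := h2
  have m1 := fun i => Ideal.Quotient.mk_surjective (φ₁ (X i))
  have m2 := fun i => Ideal.Quotient.mk_surjective (φ₂ (X i))
  choose x hx using m1
  choose y hy using m2
  let π₁ : C →ₐ[A] C ⧸ Ideal.span {1 - e} := Ideal.Quotient.mkₐ A _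
  let π₂ : C →ₐ[A] C ⧸ Ideal.span {e} := Ideal.Quotient.mkₐ A _
  have he1 : π₁ e = 1 := by
    rw [← sub_eq_zero, ← map_one π₁, ← map_sub]
    refine Ideal.Quotient.eq_zero_iff_mem.2 ?_
    rw [show e - 1 = -(1 - e) by ring]
    exact neg_mem (Ideal.mem_span_singleton_self _)
  have he2 : π₂ e = 0 := Ideal.Quotient.eq_zero_iff_mem.2 (Ideal.mem_span_singleton_self _)
  let ι := ι₁ ⊕ ι₂ ⊕ Unit
  let E : MvPolynomial ι A := X (Sum.inr (Sum.inr ()))
  let Φ : MvPolynomial ι A →ₐ[A] C :=
    aeval (Sum.elim (fun i => e * x i) (Sum.elim (fun j => (1 - e) * y j) fun _ => e))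
  let r₁ : MvPolynomial ι A →ₐ[A] MvPolynomial ι₁ A := aeval (Sum.elim X (Sum.elim (fun _ => 0) fun _ => 1))
  let r₂ : MvPolynomial ι A →ₐ[A] MvPolynomial ι₂ A := aeval (Sum.elim (fun _ => 0) (Sum.elim X fun _ => 0))
  let s₁ : MvPolynomial ι₁ A →ₐ[A] MvPolynomial ι A := rename Sum.inl
  let s₂ : MvPolynomial ι₂ A →ₐ[A] MvPolynomial ι A := rename fun j => Sum.inr (Sum.inl j)
  let F : ι → MvPolynomial ι A := Sum.elim (fun i => E * s₁ (f₁ i) + (1 - E) * X (Sum.inl i))
    (Sum.elim (fun j => E * X (Sum.inr (Sum.inl j)) + (1 - E) * s₂ (f₂ j)) fun _ => E * E - E)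
  let J := Ideal.span (Set.range F)
  let μ := Ideal.Quotient.mk J
  have hE : μ E * μ E = μ E := by
    rw [← map_mul, Ideal.Quotient.eq]; exact Ideal.subset_span ⟨Sum.inr (Sum.inr ()), rfl⟩
  have hF : ∀ v, μ (F v) = 0 := fun v => Ideal.Quotient.eq_zero_iff_mem.2 (Ideal.subset_span ⟨v, rfl⟩)
  have hF1 : ∀ i, μ E * μ (s₁ (f₁ i)) + (1 - μ E) * μ (X (Sum.inl i)) = 0 := fun i => by
    rw [← hF (Sum.inl i)]; simp [F, μ]
  have hF2 : ∀ j, μ E * μ (X (Sum.inr (Sum.inl j))) + (1 - μ E) * μ (s₂ (f₂ j)) = 0 := fun j => by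
    rw [← hF (Sum.inr (Sum.inl j))]; simp [F, μ]
  -- on the two halves the substitutions are harmless
  have hs₁ : ∀ q, μ E * μ q = μ E * μ (s₁ (r₁ q)) := by
    intro q
    induction q using MvPolynomial.induction_on with
    | C a => simp [r₁, s₁]
    | add p q hp hq => simp only [map_add, mul_add, hp, hq]
    | mul_X p v hp =>
      have hv : μ E * μ (X v) = μ E * μ (s₁ (r₁ (X v))) := by
        rcases v with i | j | u
        · simp [r₁, s₁]
        · simp only [r₁, aeval_X, Sum.elim_inr, Sum.elim_inl, map_zero, mul_zero]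
          have := congrArg (μ E * ·) (hF2 j)
          simp only [mul_add, mul_zero, ← mul_assoc, hE, mul_sub, mul_one, sub_self, zero_mul, add_zero] at this
          exact this
        · simp only [r₁, aeval_X, Sum.elim_inr, map_one, mul_one]
          exact hE
      rw [map_mul, map_mul, map_mul, map_mul, ← mul_assoc, hp, mul_right_comm, hv]
      ring
  have hs₂ : ∀ q, (1 - μ E) * μ q = (1 - μ E) * μ (s₂ (r₂ q)) := by
    intro q
    induction q using MvPolynomial.induction_on with
    | C a => simp [r₂, s₂]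
    | add p q hp hq => simp only [map_add, mul_add, hp, hq]
    | mul_X p v hp =>
      have hv : (1 - μ E) * μ (X v) = (1 - μ E) * μ (s₂ (r₂ (X v))) := by
        rcases v with i | j | u
        · simp only [r₂, aeval_X, Sum.elim_inl, map_zero, mul_zero]
          have := congrArg ((1 - μ E) * ·) (hF1 i)
          simp only [mul_add, mul_zero, ← mul_assoc, sub_mul, one_mul, mul_sub, mul_one, hE, sub_self, zero_mul,
            zero_add, sub_zero] at this
          rw [sub_mul, one_mul]
          exact this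
        · simp [r₂, s₂]
        · simp only [r₂, aeval_X, Sum.elim_inr, map_zero, mul_zero, sub_mul, one_mul]
          exact sub_eq_zero.2 hE.symm
      rw [map_mul, map_mul, map_mul, map_mul, ← mul_assoc, hp, mul_right_comm, hv]
      ring
  have hr₁ : ∀ q, π₁ (Φ q) = φ₁ (r₁ q) := by
    intro q
    refine DFunLike.congr_fun (MvPolynomial.algHom_ext (f := π₁.comp Φ) (g := φ₁.comp r₁) fun v => ?_) q
    rcases v with i | j | u
    · simp [Φ, r₁, he1]; exact hx i
    · simp [Φ, r₁, he1]
    · simp [Φ, r₁, he1]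
  have hr₂ : ∀ q, π₂ (Φ q) = φ₂ (r₂ q) := by
    intro q
    refine DFunLike.congr_fun (MvPolynomial.algHom_ext (f := π₂.comp Φ) (g := φ₂.comp r₂) fun v => ?_) q
    rcases v with i | j | u
    · simp [Φ, r₂, he2]
    · simp [Φ, r₂, he2]; exact hy j
    · simp [Φ, r₂, he2]
  have hsplit : ∀ c : C, π₁ c = 0 → π₂ c = 0 → c = 0 := by
    intro c h1 h2
    obtain ⟨a, ha⟩ := Ideal.mem_span_singleton'.1 (Ideal.Quotient.eq_zero_iff_mem.1 h1)
    obtain ⟨b, hb⟩ := Ideal.mem_span_singleton'.1 (Ideal.Quotient.eq_zero_iff_mem.1 h2)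
    calc c = e * c + (1 - e) * c := by ring
      _ = a * (e * (1 - e)) + b * ((1 - e) * e) := by
        conv_lhs => arg 1; rw [← ha]
        conv_lhs => arg 2; rw [← hb]
        ring
      _ = 0 := by rw [mul_comm (1 - e) e, mul_sub, mul_one, he.eq, sub_self, mul_zero, mul_zero, add_zero]
  refine ⟨ι, inferInstance, Φ, F, ?_, le_antisymm ?_ (Ideal.span_le.2 ?_)⟩
  · intro c
    obtain ⟨p, hp⟩ := hφ₁ (π₁ c)
    obtain ⟨q, hq⟩ := hφ₂ (π₂ c)
    refine ⟨E * s₁ p + (1 - E) * s₂ q, eq_of_sub_eq_zero (hsplit _ ?_ ?_)⟩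
    · have hrs : r₁ (s₁ p) = p := by
        refine DFunLike.congr_fun (MvPolynomial.algHom_ext (f := r₁.comp s₁) (g := AlgHom.id A _) fun i => ?_) p
        simp [r₁, s₁]
      rw [map_sub, hr₁, ← hp]
      simp [r₁, E, hrs]
    · have hrs : r₂ (s₂ q) = q := by
        refine DFunLike.congr_fun (MvPolynomial.algHom_ext (f := r₂.comp s₂) (g := AlgHom.id A _) fun i => ?_) q
        simp [r₂, s₂]
      rw [map_sub, hr₂, ← hq]
      simp [r₂, E, hrs]
  · intro q hq
    have h1 : r₁ q ∈ Ideal.span (Set.range f₁) := by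
      rw [← hker₁, RingHom.mem_ker]
      show φ₁ (r₁ q) = 0
      rw [← hr₁, show Φ q = 0 from hq, map_zero]
    have h2 : r₂ q ∈ Ideal.span (Set.range f₂) := by
      rw [← hker₂, RingHom.mem_ker]
      show φ₂ (r₂ q) = 0
      rw [← hr₂, show Φ q = 0 from hq, map_zero]
    obtain ⟨c, hc⟩ := Ideal.mem_span_range_iff_exists_fun.1 h1
    obtain ⟨d, hd⟩ := Ideal.mem_span_range_iff_exists_fun.1 h2
    refine Ideal.Quotient.eq_zero_iff_mem.1 ?_
    show μ q = 0
    have a1 : ∀ i, μ E * μ (s₁ (f₁ i)) = 0 := fun i => by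
      have := congrArg (μ E * ·) (hF1 i)
      simp only [mul_add, mul_zero, ← mul_assoc, hE, mul_sub, mul_one, sub_self, zero_mul, add_zero] at this
      exact this
    have a2 : ∀ j, (1 - μ E) * μ (s₂ (f₂ j)) = 0 := fun j => by
      have := congrArg ((1 - μ E) * ·) (hF2 j)
      simp only [mul_add, mul_zero, ← mul_assoc, sub_mul, one_mul, mul_sub, mul_one, hE, sub_self, zero_mul,
        zero_add, sub_zero] at this
      rw [sub_mul, one_mul]
      exact this
    calc μ q = μ E * μ q + (1 - μ E) * μ q := by ring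
      _ = μ E * μ (s₁ (r₁ q)) + (1 - μ E) * μ (s₂ (r₂ q)) := by rw [hs₁, hs₂]
      _ = 0 := by
        rw [← hc, ← hd]
        simp only [map_sum, map_mul, Finset.mul_sum]
        rw [Finset.sum_eq_zero (fun i _ => by rw [mul_left_comm, a1, mul_zero]),
          Finset.sum_eq_zero (fun i _ => by rw [mul_left_comm, a2, mul_zero]), add_zero]
  · rintro _ ⟨v, rfl⟩
    refine hsplit _ ?_ ?_
    · show π₁ (Φ (F v)) = 0
      rw [hr₁]
      rcases v with i | j | u
      · have hrs : r₁ (s₁ (f₁ i)) = f₁ i := by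
          refine DFunLike.congr_fun (MvPolynomial.algHom_ext (f := r₁.comp s₁) (g := AlgHom.id A _) fun k => ?_) _
          simp [r₁, s₁]
        rw [show r₁ (F (Sum.inl i)) = f₁ i by simp [F, r₁, E] ; exact hrs]
        exact RingHom.mem_ker.1 (hker₁.ge (Ideal.subset_span ⟨i, rfl⟩))
      · simp [F, r₁, E]
      · simp [F, r₁, E]
    · show π₂ (Φ (F v)) = 0
      rw [hr₂]
      rcases v with i | j | u
      · simp [F, r₂, E]
      · have hrs : r₂ (s₂ (f₂ j)) = f₂ j := by
          refine DFunLike.congr_fun (MvPolynomial.algHom_ext (f := r₂.comp s₂) (g := AlgHom.id A _) fun k => ?_) _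
          simp [r₂, s₂]
        rw [show r₂ (F (Sum.inr (Sum.inl j))) = f₂ j by simp [F, r₂, E] ; exact hrs]
        exact RingHom.mem_ker.1 (hker₂.ge (Ideal.subset_span ⟨j, rfl⟩))
      · simp [F, r₂, E]

/-- Square presentations glue along a finite cover by idempotents. -/
theorem isSq_of_idem_cover : ∀ (l : ℕ) (C : Type u) [CommRing C] [Algebra A C] (e : Fin l → C),
    (∀ i, IsIdempotentElem (e i)) → Ideal.span (Set.range e) = ⊤ →
    (∀ i, IsSq A (C ⧸ Ideal.span {1 - e i})) → IsSq A C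
  | 0, C, _, _, e, _, hspan, _ => by
    rw [Set.range_eq_empty, Ideal.span_empty] at hspan
    have := subsingleton_of_bot_eq_top hspan
    haveI : Subsingleton C := Submodule.subsingleton_iff C |>.1 this
    exact isSq_of_subsingleton C
  | l + 1, C, _, _, e, he, hspan, hsq => by
    refine isSq_glue (he 0) (hsq 0) ?_
    let C' := C ⧸ Ideal.span {e 0}
    let π : C →ₐ[A] C' := Ideal.Quotient.mkₐ A _
    have h0 : π (e 0) = 0 := Ideal.Quotient.eq_zero_iff_mem.2 (Ideal.mem_span_singleton_self _)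
    refine isSq_of_idem_cover l C' (fun i => π (e i.succ)) (fun i => (he _).map π) ?_ fun i => ?_
    · have := congrArg (Ideal.map π.toRingHom) hspan
      rw [Ideal.map_span, ← Set.range_comp, Ideal.map_top] at this
      refine eq_top_iff.2 (this.ge.trans (Ideal.span_le.2 ?_))
      rintro _ ⟨v, rfl⟩
      induction v using Fin.cases with
      | zero => show π (e 0) ∈ _; rw [h0]; exact zero_mem _
      | succ i => exact Ideal.subset_span ⟨i, rfl⟩
    · -- `C'/(1 - e')` is a quotient of `C/(1 - e)` by an idempotent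
      let D := C ⧸ Ideal.span {1 - e i.succ}
      let ρ : C →ₐ[A] D := Ideal.Quotient.mkₐ A _
      have hid : IsIdempotentElem (1 - ρ (e 0)) := ((he 0).map ρ).one_sub
      refine (IsSq.idem (hsq i.succ) hid).of_algEquiv ?_
      rw [sub_sub_cancel]
      refine ((Ideal.quotientEquivAlgOfEq A ?_).trans
        (DoubleQuot.quotQuotEquivQuotSupₐ A (Ideal.span {1 - e i.succ}) (Ideal.span {e 0}))).trans
        (((DoubleQuot.quotQuotEquivQuotSupₐ A (Ideal.span {e 0}) (Ideal.span {1 - e i.succ})).trans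
          (Ideal.quotientEquivAlgOfEq A (sup_comm _ _))).symm.trans (Ideal.quotientEquivAlgOfEq A ?_))
      · rw [Ideal.map_span, Set.image_singleton]
      · rw [Ideal.map_span, Set.image_singleton, map_sub, map_one]

end TateLib
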