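import Groth.Agent.TateLib.Socle
import Groth.Agent.QFDualLib.Noether
import Mathlib.RingTheory.OrzechProperty
import Mathlib.LinearAlgebra.Dual.Basis
import Mathlib.Algebra.MvPolynomial.PDeriv

/-!
# Tate's theorem for finite free square presentations

For `B = A[x₁, …, xₙ]/(f₁, …, fₙ)` finite free over `A` the element `Δ = det (bᵢⱼ)` of `B ⊗ B`
gives an isomorphism `ω_{B/A} ≅ B` sending the trace to the Jacobian determinant.
-/

set_option autoImplicit false

universe u v

open MvPolynomial TensorProduct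

namespace TateLib

theorem sub_C_eval_mem {R : Type u} [CommRing R] {n : ℕ} (a : Fin n → R) (p : MvPolynomial (Fin n) R) :
    p - C (eval a p) ∈ Ideal.span (Set.range fun j : Fin n => X j - C (a j)) := by
  induction p using MvPolynomial.induction_on with
  | C x => simp
  | add p q hp hq =>
    rw [map_add, map_add, add_sub_add_comm]
    exact add_mem hp hq
  | mul_X p j hp =>
    have hX : X j - C (a j) ∈ Ideal.span (Set.range fun j : Fin n => X j - C (a j)) :=
      Ideal.subset_span ⟨j, rfl⟩
    have e : p * X j - C (eval a (p * X j)) = (p - C (eval a p)) * X j + C (eval a p) * (X j - C (a j)) := by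
      simp; ring
    rw [e]
    exact add_mem (Ideal.mul_mem_right _ _ hp) (Ideal.mul_mem_left _ _ hX)

/-- The Jacobian determinant. -/
noncomputable def jac {A : Type u} [CommRing A] {n : ℕ} (f : Fin n → MvPolynomial (Fin n) A) :
    MvPolynomial (Fin n) A :=
  Matrix.det (Matrix.of fun i j : Fin n => pderiv j (f i))

section

variable {A : Type u} [CommRing A] {n : ℕ} {B : Type u} [CommRing B] [Algebra A B]
  (φ : MvPolynomial (Fin n) A →ₐ[A] B) (f : Fin n → MvPolynomial (Fin n) A)

/-- `B[x] → B ⊗ B`, coefficients to the right and variables to the left. -/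
noncomputable def theta : MvPolynomial (Fin n) B →+* B ⊗[A] B :=
  eval₂Hom (Algebra.TensorProduct.includeRight : B →ₐ[A] B ⊗[A] B).toRingHom fun j => φ (X j) ⊗ₜ 1

theorem phi_apply (p : MvPolynomial (Fin n) A) : φ p = eval (fun j => φ (X j)) (map (algebraMap A B) p) := by
  rw [eval_map, ← aeval_def]
  exact DFunLike.congr_fun (aeval_unique φ) p

theorem theta_map (p : MvPolynomial (Fin n) A) : theta φ (map (algebraMap A B) p) = φ p ⊗ₜ 1 := by
  refine RingHom.congr_fun (ringHom_ext (f := (theta φ).comp (map (algebraMap A B)))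
    (g := (Algebra.TensorProduct.includeLeftRingHom).comp φ.toRingHom) (fun a => ?_) (fun j => ?_)) p
  · simp [theta]
  · simp [theta]

theorem lmul_theta (q : MvPolynomial (Fin n) B) :
    Algebra.TensorProduct.lmul' A (theta φ q) = eval (fun j => φ (X j)) q := by
  refine RingHom.congr_fun (ringHom_ext (f := (Algebra.TensorProduct.lmul' (S := B) A).toRingHom.comp (theta φ))
    (g := eval fun j => φ (X j)) (fun b => ?_) (fun j => ?_)) q
  · simp [theta]
  · simp [theta]

variable {φ f}

theorem exists_matrix (hker : RingHom.ker φ.toRingHom = Ideal.span (Set.range f)) :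
    ∃ b : Matrix (Fin n) (Fin n) (MvPolynomial (Fin n) B),
      ∀ i, map (algebraMap A B) (f i) = ∑ j, b i j * (X j - C (φ (X j))) := by
  have h : ∀ i, map (algebraMap A B) (f i) ∈
      Ideal.span (Set.range fun j : Fin n => X j - C (φ (X j))) := fun i => by
    have := sub_C_eval_mem (fun j => φ (X j)) (map (algebraMap A B) (f i))
    rwa [← phi_apply, show φ (f i) = 0 from
      RingHom.mem_ker.1 (hker.ge (Ideal.subset_span ⟨i, rfl⟩)), map_zero, sub_zero] at this
  choose b hb using fun i => Ideal.mem_span_range_iff_exists_fun.1 (h i)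
  exact ⟨Matrix.of b, fun i => (hb i).symm⟩

variable (hφ : Function.Surjective φ) (hker : RingHom.ker φ.toRingHom = Ideal.span (Set.range f))
  {b : Matrix (Fin n) (Fin n) (MvPolynomial (Fin n) B)}
  (hb : ∀ i, map (algebraMap A B) (f i) = ∑ j, b i j * (X j - C (φ (X j))))

include hφ hker hb in
theorem delta_mem :
    theta φ b.det ∈ Submodule.annihilator (RingHom.ker (Algebra.TensorProduct.lmul' (S := B) A)) := by
  rw [QFDualLib.mem_annihilator_iff]
  let N : Matrix (Fin n) (Fin n) (B ⊗[A] B) := b.map (theta φ)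
  let v : Fin n → B ⊗[A] B := fun j => φ (X j) ⊗ₜ[A] (1 : B) - (1 : B) ⊗ₜ[A] φ (X j)
  have hNv : N.mulVec v = 0 := by
    funext i
    have h := congrArg (theta φ) (hb i)
    rw [theta_map, show φ (f i) = 0 from RingHom.mem_ker.1 (hker.ge (Ideal.subset_span ⟨i, rfl⟩)),
      zero_tmul, map_sum] at h
    rw [Pi.zero_apply]
    refine Eq.trans ?_ h.symm
    show ∑ j, N i j * v j = ∑ j, theta φ (b i j * (X j - C (φ (X j))))
    refine Finset.sum_congr rfl fun j _ => ?_
    simp [N, v, theta]
  have hdet : ∀ j, N.det * v j = 0 := fun j => by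
    have h := congrArg N.adjugate.mulVec hNv
    rw [Matrix.mulVec_mulVec, Matrix.adjugate_mul, Matrix.mulVec_zero, Matrix.smul_mulVec,
      Matrix.one_mulVec] at h
    exact congrFun h j
  have hN : theta φ b.det = N.det := RingHom.map_det _ _
  intro s
  obtain ⟨p, rfl⟩ := hφ s
  induction p using MvPolynomial.induction_on with
  | C a =>
    rw [show φ (C a) = algebraMap A B a from φ.commutes a,
      show ((1 : B) ⊗ₜ[A] algebraMap A B a) = algebraMap A B a ⊗ₜ[A] (1 : B) by
        rw [Algebra.algebraMap_eq_smul_one, ← smul_tmul]]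
  | add p q hp hq => simp only [map_add, tmul_add, add_tmul, add_mul, hp, hq]
  | mul_X p j hp =>
    have hj : ((1 : B) ⊗ₜ[A] φ (X j)) * theta φ b.det = (φ (X j) ⊗ₜ[A] (1 : B)) * theta φ b.det := by
      have := hdet j
      rw [← hN, mul_sub, sub_eq_zero, mul_comm, mul_comm (theta φ b.det)] at this
      exact this.symm
    rw [map_mul, show ((1 : B) ⊗ₜ[A] (φ p * φ (X j))) = ((1 : B) ⊗ₜ[A] φ p) * ((1 : B) ⊗ₜ[A] φ (X j)) by simp,
      mul_assoc, hj, mul_left_comm, hp, ← mul_assoc, Algebra.TensorProduct.tmul_mul_tmul, mul_one,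
      mul_comm (φ (X j))]

include hb in
theorem lmul_delta : Algebra.TensorProduct.lmul' A (theta φ b.det) = φ (jac f) := by
  rw [lmul_theta, RingHom.map_det, jac, ← AlgHom.coe_toRingHom, RingHom.map_det]
  congr 1
  ext i k
  simp only [RingHom.mapMatrix_apply, Matrix.map_apply, Matrix.of_apply, AlgHom.coe_toRingHom]
  rw [phi_apply φ, ← pderiv_map, hb i]
  simp only [map_sum, Derivation.leibniz, map_add, smul_eq_mul, map_mul, map_sub, eval_X, eval_C, sub_self,
    zero_mul, add_zero]
  rw [Finset.sum_eq_single k (fun j _ hjk => by simp [hjk]) (by simp)]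
  simp

include hφ hker hb in
theorem pair_delta_surjective [Module.Free A B] [Module.Finite A B] :
    Function.Surjective (QFDualLib.pairHom (delta_mem hφ hker hb)) := by
  classical
  rw [← LinearMap.range_eq_top]
  by_contra hne
  obtain ⟨M, hM, hle⟩ := Ideal.exists_le_maximal _ hne
  let _ : Field (B ⧸ M) := Ideal.Quotient.field M
  let π : B →ₐ[A] B ⧸ M := Ideal.Quotient.mkₐ A M
  let fK : Fin n → MvPolynomial (Fin n) (B ⧸ M) := fun i => map (algebraMap A (B ⧸ M)) (f i)
  let Q := MvPolynomial (Fin n) (B ⧸ M) ⧸ Ideal.span (Set.range fK)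
  let γ : MvPolynomial (Fin n) A →ₐ[A] Q :=
    (Ideal.Quotient.mkₐ A (Ideal.span (Set.range fK))).comp (mapAlgHom (Algebra.ofId A (B ⧸ M)))
  have hγ : ∀ p ∈ RingHom.ker φ.toRingHom, γ p = 0 := by
    intro p hp
    rw [hker] at hp
    refine (Ideal.Quotient.eq_zero_iff_mem).2 ?_
    have := Ideal.mem_map_of_mem (map (algebraMap A (B ⧸ M))) hp
    rw [Ideal.map_span, ← Set.range_comp] at this
    exact this
  let β : B →ₐ[A] Q := (Ideal.Quotient.liftₐ _ γ hγ).comp
    (Ideal.quotientKerAlgEquivOfSurjective (f := φ) hφ).symm.toAlgHom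
  have hβ : ∀ p, β (φ p) = γ p := fun p => by
    show Ideal.Quotient.liftₐ _ γ hγ ((Ideal.quotientKerAlgEquivOfSurjective hφ).symm (φ p)) = γ p
    rw [Ideal.quotientKerAlgEquivOfSurjective_symm_apply]
    rfl
  let ι : (B ⧸ M) →ₐ[A] Q := IsScalarTower.toAlgHom A (B ⧸ M) Q
  let Φ : B ⊗[A] B →ₐ[A] Q := Algebra.TensorProduct.lift β (ι.comp π) (fun x y => @Commute.all Q _ _ _)
  have hΦθ : ∀ q, Φ (theta φ q) = Ideal.Quotient.mk _ (map π.toRingHom q) := by
    intro q
    refine RingHom.congr_fun (ringHom_ext (f := Φ.toRingHom.comp (theta φ))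
      (g := (Ideal.Quotient.mk (Ideal.span (Set.range fK))).comp (map π.toRingHom)) (fun y => ?_) (fun j => ?_)) q
    · simp [theta, Φ, ι]
      rfl
    · simp [theta, Φ, hβ, γ]
  -- finiteness of the fibre
  let ψ : (B ⧸ M) ⊗[A] B →ₐ[B ⧸ M] Q :=
    Algebra.TensorProduct.lift (Algebra.ofId (B ⧸ M) Q) β (fun x y => @Commute.all Q _ _ _)
  have hψ : Function.Surjective ψ := by
    intro y
    obtain ⟨q, rfl⟩ := Ideal.Quotient.mk_surjective y
    induction q using MvPolynomial.induction_on with
    | C c => exact ⟨c ⊗ₜ 1, by simp [ψ]; rfl⟩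
    | add p q hp hq =>
      obtain ⟨x, hx⟩ := hp; obtain ⟨y, hy⟩ := hq
      exact ⟨x + y, by rw [map_add, map_add, hx, hy]⟩
    | mul_X p j hp =>
      obtain ⟨x, hx⟩ := hp
      exact ⟨x * ((1 : B ⧸ M) ⊗ₜ φ (X j)), by simp [map_mul, hx, ψ, hβ, γ]⟩
  have : Module.Finite (B ⧸ M) Q := Module.Finite.of_surjective ψ.toLinearMap hψ
  -- contradiction with the socle determinant
  let bs := Module.Free.chooseBasis A B
  refine det_notMem (fun j => π (φ (X j))) fK (b.map (map π.toRingHom)) (fun i => ?_) ?_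
  · have h := congrArg (map π.toRingHom) (hb i)
    rw [MvPolynomial.map_map, show π.toRingHom.comp (algebraMap A B) = algebraMap A (B ⧸ M) from π.comp_algebraMap,
      map_sum] at h
    refine h.trans (Finset.sum_congr rfl fun j _ => ?_)
    simp
  · rw [← RingHom.mapMatrix_apply, ← RingHom.map_det, ← Ideal.Quotient.eq_zero_iff_mem, ← hΦθ,
      ← QFDualLib.pair_coord bs (theta φ b.det), map_sum]
    refine Finset.sum_eq_zero fun i _ => ?_
    have hmem : QFDualLib.pair (theta φ b.det) ⟨bs.coord i⟩ ∈ M :=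
      hle ⟨⟨bs.coord i⟩, rfl⟩
    rw [Algebra.TensorProduct.lift_tmul]
    refine mul_eq_zero_of_right _ ?_
    show ι (π (QFDualLib.pair (theta φ b.det) ⟨bs.coord i⟩)) = 0
    rw [show π (QFDualLib.pair (theta φ b.det) ⟨bs.coord i⟩) = 0 from Ideal.Quotient.eq_zero_iff_mem.2 hmem]
    exact map_zero ι

include hφ hker hb in
theorem pair_delta_bijective [Module.Free A B] [Module.Finite A B] :
    Function.Bijective (QFDualLib.pairHom (delta_mem hφ hker hb)) := by
  classical
  refine ⟨?_, pair_delta_surjective hφ hker hb⟩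
  let bs := Module.Free.chooseBasis A B
  let L := QFDualLib.pairHom (delta_mem hφ hker hb)
  let g : B →ₗ[A] B :=
    { toFun := fun x => L ⟨bs.toDualEquiv x⟩
      map_add' := fun x y => by
        rw [← map_add]
        exact congrArg L (Disc.Omega.ext (map_add bs.toDualEquiv x y))
      map_smul' := fun a x => by
        rw [RingHom.id_apply, Algebra.smul_def a (L _), ← smul_eq_mul, ← map_smul]
        refine congrArg L (Disc.Omega.ext ?_)
        rw [QFDualLib.algebraMap_smul_omega]
        exact map_smul bs.toDualEquiv a x }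
  have hg : Function.Surjective g := fun y => by
    obtain ⟨l, hl⟩ := pair_delta_surjective hφ hker hb y
    exact ⟨bs.toDualEquiv.symm l.toLinearMap, (congrArg L (Disc.Omega.ext (bs.toDualEquiv.apply_symm_apply _))).trans hl⟩
  intro l l' hll
  have h := OrzechProperty.injective_of_surjective_endomorphism g hg
    (a₁ := bs.toDualEquiv.symm l.toLinearMap) (a₂ := bs.toDualEquiv.symm l'.toLinearMap) (by
      show L ⟨bs.toDualEquiv (bs.toDualEquiv.symm _)⟩ = L ⟨bs.toDualEquiv (bs.toDualEquiv.symm _)⟩
      rw [LinearEquiv.apply_symm_apply, LinearEquiv.apply_symm_apply]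
      exact hll)
  exact Disc.Omega.ext (bs.toDualEquiv.symm.injective h)

/-- **Tate**: `B ≅ ω_{B/A}`, the Jacobian going to the trace. -/
theorem exists_omega_equiv [Module.Free A B] [Module.Finite A B] (hφ : Function.Surjective φ)
    (hker : RingHom.ker φ.toRingHom = Ideal.span (Set.range f)) :
    ∃ L : Disc.Omega A B ≃ₗ[B] B, L (Disc.Omega.trace A B) = φ (jac f) := by
  classical
  obtain ⟨b, hb⟩ := exists_matrix hker
  refine ⟨LinearEquiv.ofBijective _ (pair_delta_bijective hφ hker hb), ?_⟩
  rw [← lmul_delta hb, QFDualLib.lmul_eq_pair_trace (Module.Free.chooseBasis A B) (delta_mem hφ hker hb)]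
  rfl

theorem differentSet_eq [Module.Free A B] [Module.Finite A B] (hφ : Function.Surjective φ)
    (hker : RingHom.ker φ.toRingHom = Ideal.span (Set.range f)) :
    Disc.differentSet A B = (Ideal.span {φ (jac f)} : Set B) := by
  obtain ⟨L, hL⟩ := exists_omega_equiv hφ hker
  ext x
  rw [QFDualLib.mem_differentSet_iff, SetLike.mem_coe, Ideal.mem_span_singleton']
  constructor
  · intro h
    obtain ⟨c, hc⟩ := h (L.symm 1)
    refine ⟨c, ?_⟩
    have := congrArg L hc
    rwa [map_smul, map_smul, hL, L.apply_symm_apply, smul_eq_mul, smul_eq_mul, mul_one] at this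
  · rintro ⟨a, rfl⟩ l
    refine ⟨a * L l, L.injective ?_⟩
    rw [map_smul, map_smul, hL, smul_eq_mul, smul_eq_mul]
    ring

end

end TateLib
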