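import Groth.Agent.TateLib.Square
import Groth.Prelude.Def_RegImm
import Mathlib.RingTheory.Localization.Away.Basic
import Mathlib.RingTheory.HopkinsLevitzki
import Mathlib.RingTheory.KrullDimension.Zero
import Mathlib.RingTheory.Ideal.GoingUp

/-!
# Square presentations of finite syntomic algebras over a local ring
-/

set_option autoImplicit false

universe u

open MvPolynomial TensorProduct

namespace TateLib

theorem krullDim_eq_zero_of_artinian (R : Type u) [CommRing R] [IsArtinianRing R] [Nontrivial R] :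
    ringKrullDim R = 0 :=
  le_antisymm (Ring.krullDimLE_iff.1 (isArtinianRing_iff_krullDimLE_zero.1 inferInstance))
    ringKrullDim_nonneg_of_nontrivial

/-- A finite local complete intersection over a field has a square presentation. -/
theorem isSq_of_isLCIOver (k : Type u) [Field k] (C : Type u) [CommRing C] [Algebra k C] [Module.Finite k C]
    (h : Synt.IsLCIOver k C) : IsSq k C := by
  classical
  have : IsArtinianRing C := IsArtinianRing.of_finite k C
  choose g hg hCI using h.2
  have hidem : ∀ q : PrimeSpectrum C, ∃ e : C, IsIdempotentElem e ∧ e ∉ q.asIdeal ∧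
      IsSq k (C ⧸ Ideal.span {1 - e}) := by
    intro q
    obtain ⟨n, y, hy⟩ := IsArtinian.exists_pow_succ_smul_dvd (g q) (1 : C)
    rw [smul_eq_mul, smul_eq_mul, mul_one] at hy
    have hpow : ∀ m, g q ^ n = g q ^ (n + m) * y ^ m := by
      intro m
      induction m with
      | zero => simp
      | succ m ih =>
        calc g q ^ n = g q ^ m * g q ^ n * y ^ m := by rw [← pow_add, add_comm]; exact ih
          _ = g q ^ m * (g q ^ (n + 1) * y) * y ^ m := by rw [← Nat.succ_eq_add_one, hy]
          _ = g q ^ (n + (m + 1)) * y ^ (m + 1) := by ring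
    let e := g q ^ n * y ^ n
    have hge : g q ^ n * e = g q ^ n := by rw [← mul_assoc, ← pow_add]; exact (hpow n).symm
    have he : IsIdempotentElem e := by
      show g q ^ n * y ^ n * e = e
      rw [mul_right_comm, hge]
    refine ⟨e, he, fun hq => hg q (q.isPrime.mem_of_pow_mem n (hge ▸ Ideal.mul_mem_left _ _ hq)), ?_⟩
    let D := C ⧸ Ideal.span {1 - e}
    let π := Ideal.Quotient.mk (Ideal.span {1 - e})
    have he1 : π e = 1 := by
      rw [← map_one π, Ideal.Quotient.eq]
      rw [show e - 1 = -(1 - e) by ring]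
      exact neg_mem (Ideal.mem_span_singleton_self _)
    have hu : IsUnit (π (g q)) := by
      rcases Nat.eq_zero_or_pos n with hn | hn
      · subst hn
        refine IsUnit.of_mul_eq_one (π y) ?_
        rw [← map_mul, ← map_one π]
        exact congrArg π (by simpa using hy)
      · have : IsUnit (π (g q ^ n)) := IsUnit.of_mul_eq_one (π (y ^ n)) (by rw [← map_mul]; exact he1)
        rw [map_pow] at this
        exact (isUnit_pow_iff hn.ne').1 this
    have : IsLocalization.Away (g q) D := by
      refine ⟨?_, fun z => ?_, @fun a b hab => ?_⟩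
      · rintro ⟨_, m, rfl⟩
        show IsUnit (π (g q ^ m))
        rw [map_pow]; exact hu.pow m
      · obtain ⟨c, rfl⟩ := Ideal.Quotient.mk_surjective z
        exact ⟨⟨c, 1⟩, by simp; rfl⟩
      · obtain ⟨d, hd⟩ := Ideal.mem_span_singleton'.1 (Ideal.Quotient.eq.1 hab)
        refine ⟨⟨_, n, rfl⟩, ?_⟩
        show g q ^ n * a = g q ^ n * b
        rw [← sub_eq_zero, ← mul_sub, ← hd, mul_left_comm, mul_sub, mul_one, hge, sub_self, mul_zero]
    have E : Localization.Away (g q) ≃ₐ[k] D :=
      (IsLocalization.algEquiv (Submonoid.powers (g q)) _ D).restrictScalars k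
    rcases hCI q with hs | ⟨n', c, hcn, φ, r, hφ, hker, hdim⟩
    · haveI := hs
      exact (isSq_of_subsingleton _).of_algEquiv E
    · rcases subsingleton_or_nontrivial (Localization.Away (g q)) with hs | hs
      · exact (isSq_of_subsingleton _).of_algEquiv E
      have : Module.Finite k (Localization.Away (g q)) := Module.Finite.equiv E.symm.toLinearEquiv
      have : IsArtinianRing (Localization.Away (g q)) := IsArtinianRing.of_finite k _
      rw [krullDim_eq_zero_of_artinian] at hdim
      have hnc : n' - c = 0 := by exact_mod_cast hdim.symm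
      obtain rfl : c = n' := le_antisymm hcn (Nat.sub_eq_zero_iff_le.1 hnc)
      exact IsSq.of_algEquiv ⟨Fin c, inferInstance, φ, r, hφ, hker⟩ E
  choose e he heq hsq using hidem
  have : Fintype (PrimeSpectrum C) := Fintype.ofFinite _
  let i := (Fintype.equivFin (PrimeSpectrum C)).symm
  refine isSq_of_idem_cover _ C (fun j => e (i j)) (fun j => he _) ?_ fun j => hsq _
  by_contra hne
  obtain ⟨q, hq, hle⟩ := Ideal.exists_le_maximal _ hne
  apply heq ⟨q, hq.isPrime⟩
  refine hle (Ideal.subset_span ⟨i.symm ⟨q, hq.isPrime⟩, ?_⟩)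
  simp

section Lift

variable {A : Type u} [CommRing A] [IsLocalRing A] {B : Type u} [CommRing B] [Algebra A B] [Module.Finite A B]

theorem map_maximalIdeal_le_jacobson :
    (IsLocalRing.maximalIdeal A).map (algebraMap A B) ≤ Ideal.jacobson ⊥ := by
  refine le_sInf fun M hM => ?_
  have hM' : M.IsMaximal := hM.2
  rw [Ideal.map_le_iff_le_comap]
  have : (M.comap (algebraMap A B)).IsMaximal := Ideal.isMaximal_comap_of_isIntegral_of_isMaximal M
  exact (IsLocalRing.eq_maximalIdeal this).ge

/-- Square presentations lift from the closed fibre to a finite flat algebra of finite presentation. -/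
theorem isSq_of_fibre [Algebra.FinitePresentation A B] [Module.Flat A B] (k : Type u) [Field k] [Algebra A k]
    (hk : Function.Surjective (algebraMap A k)) (hC : IsSq k (k ⊗[A] B)) : IsSq A B := by
  classical
  obtain ⟨ι, _, φb, fb, hφb, hkerb⟩ := hC
  have hkm : RingHom.ker (algebraMap A k) = IsLocalRing.maximalIdeal A :=
    IsLocalRing.eq_maximalIdeal (RingHom.ker_isMaximal_of_surjective _ hk)
  have hincl : Function.Surjective (fun b : B => (1 : k) ⊗ₜ[A] b) := by
    intro z
    induction z using TensorProduct.induction_on with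
    | zero => exact ⟨0, tmul_zero _ _⟩
    | tmul c b =>
      obtain ⟨a, rfl⟩ := hk c
      refine ⟨a • b, ?_⟩
      show (1 : k) ⊗ₜ[A] (a • b) = _
      rw [← smul_tmul, Algebra.smul_def, mul_one]
    | add x y hx hy =>
      obtain ⟨p, rfl⟩ := hx; obtain ⟨q, rfl⟩ := hy
      exact ⟨p + q, tmul_add _ _ _⟩
  choose x hx using fun j => hincl (φb (X j))
  let φ : MvPolynomial ι A →ₐ[A] B := aeval x
  let red : MvPolynomial ι A →ₐ[A] MvPolynomial ι k := mapAlgHom (Algebra.ofId A k)
  have hred : Function.Surjective red := MvPolynomial.map_surjective _ hk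
  have hcomm : ∀ p, φb (red p) = (1 : k) ⊗ₜ[A] φ p := by
    intro p
    refine DFunLike.congr_fun (MvPolynomial.algHom_ext (f := (φb.restrictScalars A).comp red)
      (g := (Algebra.TensorProduct.includeRight : B →ₐ[A] k ⊗[A] B).comp φ) fun j => ?_) p
    simp [red, φ]
    exact (hx j).symm
  let mB := (IsLocalRing.maximalIdeal A).map (algebraMap A B)
  have hzero : ∀ b : B, (1 : k) ⊗ₜ[A] b = 0 → b ∈ mB := by
    intro b hb
    let q : k →ₗ[A] (A ⧸ IsLocalRing.maximalIdeal A) :=
      ((Ideal.quotientEquivAlgOfEq A (show RingHom.ker (Algebra.ofId A k) = IsLocalRing.maximalIdeal A from hkm)).toLinearMap ∘ₗ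
        (Ideal.quotientKerAlgEquivOfSurjective (f := Algebra.ofId A k) hk).symm.toLinearMap)
    have h1 : q 1 = 1 := by
      show (Ideal.quotientEquivAlgOfEq A (show RingHom.ker (Algebra.ofId A k) = IsLocalRing.maximalIdeal A from hkm)) ((Ideal.quotientKerAlgEquivOfSurjective (f := Algebra.ofId A k) hk).symm 1) = 1
      rw [map_one, map_one]
    have := congrArg (LinearMap.rTensor B q) hb
    rw [LinearMap.rTensor_tmul, map_zero, h1] at this
    have h2 := congrArg (TensorProduct.quotTensorEquivQuotSMul B (IsLocalRing.maximalIdeal A)) this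
    rw [map_zero, ← map_one (Ideal.Quotient.mk (IsLocalRing.maximalIdeal A)),
      TensorProduct.quotTensorEquivQuotSMul_mk_tmul, one_smul] at h2
    have h3 := (Submodule.Quotient.mk_eq_zero _).1 h2
    rwa [Ideal.smul_top_eq_map] at h3
  have hφ : Function.Surjective φ := by
    have htop : (⊤ : Submodule A B) ≤ φ.range.toSubmodule := by
      refine Submodule.le_of_le_smul_of_le_jacobson_bot Module.Finite.fg_top
        (IsLocalRing.maximalIdeal_le_jacobson ⊥) ?_
      intro b _
      obtain ⟨pb, hpb⟩ := hφb ((1 : k) ⊗ₜ[A] b)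
      obtain ⟨p, rfl⟩ := hred pb
      rw [hcomm] at hpb
      have : b - φ p ∈ mB := hzero _ (by rw [tmul_sub, hpb, sub_self])
      rw [show b = φ p + (b - φ p) by ring]
      refine Submodule.add_mem_sup ⟨p, rfl⟩ ?_
      rw [Ideal.smul_top_eq_map]
      exact this
    exact fun b => htop (Submodule.mem_top : b ∈ ⊤)
  let I : Ideal (MvPolynomial ι A) := RingHom.ker φ.toRingHom
  have hIfg : I.FG := Algebra.FinitePresentation.ker_fG_of_surjective φ hφ
  -- lifts of the equations
  have hlift : ∀ i, ∃ p ∈ I, red p = fb i := by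
    intro i
    obtain ⟨p, hp⟩ := hred (fb i)
    have h0 : (1 : k) ⊗ₜ[A] φ p = 0 := by
      rw [← hcomm, hp]
      exact RingHom.mem_ker.1 (hkerb.ge (Ideal.subset_span ⟨i, rfl⟩))
    have hmem := hzero _ h0
    have h1 : φ p ∈ ((IsLocalRing.maximalIdeal A).map (algebraMap A (MvPolynomial ι A))).map φ.toRingHom := by
      rw [Ideal.map_map, show φ.toRingHom.comp (algebraMap A (MvPolynomial ι A)) = algebraMap A B from φ.comp_algebraMap]
      exact hmem
    obtain ⟨w, hw, hwφ⟩ := (Ideal.mem_map_iff_of_surjective _ hφ).1 h1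
    refine ⟨p - w, RingHom.mem_ker.2 (by show φ (p - w) = 0; rw [map_sub, show φ w = φ p from hwφ, sub_self]), ?_⟩
    have : red w = 0 := by
      refine (Ideal.map_le_iff_le_comap.1 (le_of_eq ?_) hw : w ∈ Ideal.comap red.toRingHom ⊥)
      rw [Ideal.map_map, show red.toRingHom.comp (algebraMap A (MvPolynomial ι A)) =
        (algebraMap k (MvPolynomial ι k)).comp (algebraMap A k) from by
          rw [← IsScalarTower.algebraMap_eq]; exact red.comp_algebraMap, ← Ideal.map_map,
        show (IsLocalRing.maximalIdeal A).map (algebraMap A k) = ⊥ from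
          (Ideal.map_eq_bot_iff_le_ker _).2 hkm.ge, Ideal.map_bot]
    rw [map_sub, hp, this, sub_zero]
  choose f hfI hfred using hlift
  -- `I ∩ mP = mI`
  let mP := (IsLocalRing.maximalIdeal A).map (algebraMap A (MvPolynomial ι A))
  have hinter : I ⊓ mP ≤ mP * I := by
    rintro p ⟨hpI, hpm⟩
    let Q := A ⧸ IsLocalRing.maximalIdeal A
    let inc : I.restrictScalars A →ₗ[A] MvPolynomial ι A := (I.restrictScalars A).subtype
    have hex : Function.Exact inc φ.toLinearMap := by
      intro z
      constructor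
      · intro hz; exact ⟨⟨z, hz⟩, rfl⟩
      · rintro ⟨z, rfl⟩; exact z.2
    have hinj : Function.Injective (inc.lTensor Q) :=
      LinearMap.lTensor_injective_of_exact_of_flat φ.toLinearMap hφ inc Subtype.val_injective hex Q
    have h0 : inc.lTensor Q ((1 : Q) ⊗ₜ ⟨p, hpI⟩) = 0 := by
      rw [LinearMap.lTensor_tmul]
      apply (TensorProduct.quotTensorEquivQuotSMul (MvPolynomial ι A) (IsLocalRing.maximalIdeal A)).injective
      rw [map_zero, ← map_one (Ideal.Quotient.mk (IsLocalRing.maximalIdeal A)),
        TensorProduct.quotTensorEquivQuotSMul_mk_tmul, one_smul, Submodule.Quotient.mk_eq_zero,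
        Ideal.smul_top_eq_map]
      exact hpm
    have h1 := congrArg (TensorProduct.quotTensorEquivQuotSMul (I.restrictScalars A) (IsLocalRing.maximalIdeal A))
      (hinj (h0.trans (map_zero _).symm))
    rw [map_zero, ← map_one (Ideal.Quotient.mk (IsLocalRing.maximalIdeal A)),
      TensorProduct.quotTensorEquivQuotSMul_mk_tmul, one_smul, Submodule.Quotient.mk_eq_zero] at h1
    have h2 := Submodule.mem_map_of_mem (f := inc) h1
    rw [Submodule.map_smul''] at h2
    refine (?_ : _ ≤ (mP * I).restrictScalars A) h2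
    rw [Submodule.smul_le]
    intro a ha z hz
    obtain ⟨z, -, rfl⟩ := hz
    show a • (z : MvPolynomial ι A) ∈ mP * I
    rw [Algebra.smul_def]
    exact Ideal.mul_mem_mul (Ideal.mem_map_of_mem _ ha) z.2
  have hJI : Ideal.span (Set.range f) ≤ I := Ideal.span_le.2 (by rintro _ ⟨i, rfl⟩; exact hfI i)
  have hI : I ≤ Ideal.span (Set.range f) ⊔ mP • I := by
    intro p hp
    have h0 : red p ∈ Ideal.span (Set.range fb) := by
      rw [← hkerb, RingHom.mem_ker]
      show φb (red p) = 0
      rw [hcomm, show φ p = 0 from hp, tmul_zero]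
    have h1 : red p ∈ (Ideal.span (Set.range f)).map red.toRingHom := by
      rw [Ideal.map_span, ← Set.range_comp, show red.toRingHom ∘ f = fb from _root_.funext hfred]
      exact h0
    obtain ⟨w, hw, hwp⟩ := (Ideal.mem_map_iff_of_surjective _ hred).1 h1
    rw [show p = w + (p - w) by ring]
    refine Submodule.add_mem_sup hw (hinter ⟨sub_mem hp (hJI hw), ?_⟩)
    have hk0 : p - w ∈ RingHom.ker (MvPolynomial.map (algebraMap A k) : MvPolynomial ι A →+* MvPolynomial ι k) := by
      rw [RingHom.mem_ker, map_sub, sub_eq_zero]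
      exact hwp.symm
    rw [MvPolynomial.ker_map, hkm] at hk0
    exact hk0
  -- the determinant trick
  let N := Submodule.map (Submodule.mkQ (Ideal.span (Set.range f))) I
  have hN : N ≤ mP • N := by
    refine (Submodule.map_mono hI).trans ?_
    rw [Submodule.map_sup, Submodule.map_smul'', show Submodule.map (Submodule.mkQ (Ideal.span (Set.range f)))
      (Ideal.span (Set.range f)) = ⊥ from (Submodule.eq_bot_iff _).2 (by
        rintro _ ⟨z, hz, rfl⟩; exact (Submodule.Quotient.mk_eq_zero _).2 hz), bot_sup_eq]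
  obtain ⟨r, hr1, hr0⟩ := Submodule.exists_sub_one_mem_and_smul_eq_zero_of_fg_of_le_smul mP N (Submodule.FG.map _ hIfg) hN
  have hrI : ∀ p ∈ I, r * p ∈ Ideal.span (Set.range f) := fun p hp =>
    (Submodule.Quotient.mk_eq_zero _).1 (hr0 _ (Submodule.mem_map_of_mem hp))
  have hu : IsUnit (φ r) := by
    refine Ideal.isUnit_of_sub_one_mem_jacobson_bot _ (map_maximalIdeal_le_jacobson (A := A) ?_)
    rw [← map_one φ, ← map_sub, show algebraMap A B = φ.toRingHom.comp (algebraMap A (MvPolynomial ι A)) from
      φ.comp_algebraMap.symm, ← Ideal.map_map]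
    exact Ideal.mem_map_of_mem φ.toRingHom hr1
  obtain ⟨v, hv⟩ := hu.exists_right_inv
  -- the presentation in one more variable
  let Φ : MvPolynomial (ι ⊕ Unit) A →ₐ[A] B := aeval (Sum.elim x fun _ => v)
  let F : ι ⊕ Unit → MvPolynomial (ι ⊕ Unit) A :=
    Sum.elim (fun i => rename Sum.inl (f i)) fun u => rename Sum.inl r * X (Sum.inr u) - 1
  have hΦ : ∀ q, Φ (rename Sum.inl q) = φ q := fun q => by rw [aeval_rename, Sum.elim_comp_inl]
  refine ⟨ι ⊕ Unit, inferInstance, Φ, F, fun b => ?_, le_antisymm ?_ (Ideal.span_le.2 ?_)⟩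
  · obtain ⟨q, rfl⟩ := hφ b
    exact ⟨_, hΦ q⟩
  · let J := Ideal.span (Set.range F)
    let γ : MvPolynomial ι A →ₐ[A] MvPolynomial (ι ⊕ Unit) A ⧸ J :=
      (Ideal.Quotient.mkₐ A J).comp (rename Sum.inl)
    have hγu : γ r * Ideal.Quotient.mk J (X (Sum.inr ())) = 1 := by
      show Ideal.Quotient.mk J (rename Sum.inl r) * _ = 1
      rw [← map_mul, ← map_one (Ideal.Quotient.mk J), Ideal.Quotient.eq]
      exact Ideal.subset_span ⟨Sum.inr (), rfl⟩
    have hγ : ∀ q ∈ RingHom.ker φ.toRingHom, γ q = 0 := by
      intro q hq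
      have h1 : γ (r * q) = 0 := by
        refine (Ideal.span_le (I := RingHom.ker γ.toRingHom)).2 ?_ (hrI q hq)
        rintro _ ⟨i, rfl⟩
        exact Ideal.Quotient.eq_zero_iff_mem.2 (Ideal.subset_span ⟨Sum.inl i, rfl⟩)
      rw [map_mul] at h1
      exact (IsUnit.of_mul_eq_one _ hγu).mul_right_eq_zero.1 h1
    let β : B →ₐ[A] MvPolynomial (ι ⊕ Unit) A ⧸ J := (Ideal.Quotient.liftₐ _ γ hγ).comp
      (Ideal.quotientKerAlgEquivOfSurjective (f := φ) hφ).symm.toAlgHom
    have hβ : ∀ q, β (φ q) = γ q := fun q => by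
      show Ideal.Quotient.liftₐ _ γ hγ ((Ideal.quotientKerAlgEquivOfSurjective hφ).symm (φ q)) = γ q
      rw [Ideal.quotientKerAlgEquivOfSurjective_symm_apply]
      rfl
    refine ker_le_of_section Φ J β fun w => ?_
    cases w with
    | inl i =>
      rw [show Φ (X (Sum.inl i)) = φ (X i) by simp [Φ, φ], hβ]
      exact congrArg _ (rename_X _ _)
    | inr u =>
      rw [show Φ (X (Sum.inr u)) = v from aeval_X _ _]
      have h1 : β (φ r) * β v = 1 := by rw [← map_mul, hv, map_one]
      rw [hβ] at h1
      exact (IsUnit.of_mul_eq_one _ hγu).mul_left_cancel (h1.trans hγu.symm)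
  · rintro _ ⟨w, rfl⟩
    show Φ (F w) = 0
    cases w with
    | inl i =>
      rw [show F (Sum.inl i) = rename Sum.inl (f i) from rfl, hΦ]
      exact hfI i
    | inr u =>
      rw [show F (Sum.inr u) = rename Sum.inl r * X (Sum.inr u) - 1 from rfl, map_sub, map_mul, hΦ,
        show Φ (X (Sum.inr u)) = v from aeval_X _ _, hv, map_one, sub_self]

end Lift

end TateLib
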