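import Groth.Agent.TateLib.QF
import Groth.Agent.GorLib.Socle
import Mathlib.RingTheory.PicardGroup

/-!
# Freeness of `Hom_A(B, A)` for a finite free algebra
-/

set_option autoImplicit false

universe u

open TensorProduct

namespace TateLib

/-- `ω_{C/R}` is free of rank one. -/
def OmegaFree (R C : Type u) [CommRing R] [CommRing C] [Algebra R C] : Prop :=
  Nonempty (Disc.Omega R C ≃ₗ[C] C)

variable {R C : Type u} [CommRing R] [CommRing C] [Algebra R C]

theorem omegaFree_iff {ι : Type u} [Fintype ι] [DecidableEq ι] (b : Module.Basis ι R C) :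
    OmegaFree R C ↔ ∃ g : Disc.Omega R C, IsUnit (QFDualLib.formMatrix b g).det := by
  constructor
  · rintro ⟨L⟩
    refine ⟨L.symm 1, isUnit_of_dvd_one ?_⟩
    have h := QFDualLib.det_dvd_norm b 1 (L.symm 1) (fun i => L ⟨b.coord i⟩) fun i => L.injective (by
      rw [one_smul, map_smul, L.apply_symm_apply, smul_eq_mul, mul_one])
    rwa [map_one (Algebra.norm R)] at h
  · rintro ⟨g, hg⟩
    let M := QFDualLib.formMatrix b g
    have key : ∀ c j, g.toLinearMap (c * b j) = Matrix.vecMul (fun i => b.repr c i) M j := by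
      intro c j
      conv_lhs => rw [← b.sum_repr c]
      simp only [Finset.sum_mul, map_sum, smul_mul_assoc, map_smul, smul_eq_mul, Matrix.vecMul, dotProduct, M,
        QFDualLib.formMatrix, Matrix.of_apply]
    let T : C →ₗ[C] Disc.Omega R C := LinearMap.toSpanSingleton C _ g
    have hM : IsUnit M := (Matrix.isUnit_iff_isUnit_det M).2 hg
    refine ⟨(LinearEquiv.ofBijective T ⟨fun x y hxy => ?_, fun l => ?_⟩).symm⟩
    · apply b.repr.injective
      ext i
      have h2 : Matrix.vecMul (fun i => b.repr x i) M = Matrix.vecMul (fun i => b.repr y i) M := by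
        funext j
        rw [← key, ← key]
        exact LinearMap.congr_fun (congrArg Disc.Omega.toLinearMap hxy) (b j)
      exact congrFun ((Matrix.vecMul_injective_of_isUnit hM) h2) i
    · obtain ⟨v, hv⟩ := (Matrix.vecMul_surjective_iff_isUnit.2 hM) fun j => l.toLinearMap (b j)
      refine ⟨∑ i, v i • b i, Disc.Omega.ext (b.ext fun j => ?_)⟩
      show g.toLinearMap ((∑ i, v i • b i) * b j) = l.toLinearMap (b j)
      rw [key]
      refine (congrArg (fun w => Matrix.vecMul w M j) (funext fun i => ?_)).trans (congrFun hv j)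
      rw [b.repr_sum_self]

/-- Freeness of `ω` is invariant under isomorphisms. -/
theorem OmegaFree.of_algEquiv {D : Type u} [CommRing D] [Algebra R D] [Module.Free R C] [Module.Finite R C]
    (h : OmegaFree R C) (e : C ≃ₐ[R] D) : OmegaFree R D := by
  classical
  let b := Module.Free.chooseBasis R C
  obtain ⟨g, hg⟩ := (omegaFree_iff b).1 h
  refine (omegaFree_iff (b.map e.toLinearEquiv)).2 ⟨⟨g.toLinearMap ∘ₗ e.symm.toLinearMap⟩, ?_⟩
  convert hg using 2
  refine Matrix.ext fun i j => ?_
  simp [QFDualLib.formMatrix]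

/-- Freeness of `ω` can be tested on the closed fibre. -/
theorem omegaFree_fibre_iff [IsLocalRing R] [Module.Free R C] [Module.Finite R C] (k : Type u) [Field k]
    [Algebra R k] (hk : Function.Surjective (algebraMap R k)) :
    OmegaFree R C ↔ OmegaFree k (k ⊗[R] C) := by
  classical
  let b := Module.Free.chooseBasis R C
  let b' := Algebra.TensorProduct.basis k b
  have hunit : ∀ r : R, IsUnit r ↔ IsUnit (algebraMap R k r) := fun r => by
    constructor
    · exact fun h => h.map _
    · intro h
      by_contra hr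
      have : r ∈ RingHom.ker (algebraMap R k) := (ker_residue k hk).ge ((IsLocalRing.mem_maximalIdeal r).2 hr)
      rw [RingHom.mem_ker] at this
      exact h.ne_zero this
  have hmat : ∀ (g : Disc.Omega R C) (g' : Disc.Omega k (k ⊗[R] C)),
      (∀ x, g'.toLinearMap ((1 : k) ⊗ₜ x) = algebraMap R k (g.toLinearMap x)) →
      (IsUnit (QFDualLib.formMatrix b' g').det ↔ IsUnit (QFDualLib.formMatrix b g).det) := by
    intro g g' h
    have : QFDualLib.formMatrix b' g' = (QFDualLib.formMatrix b g).map (algebraMap R k) := by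
      ext i j
      simp only [QFDualLib.formMatrix, Matrix.map_apply, Matrix.of_apply, b', Algebra.TensorProduct.basis_apply,
        Algebra.TensorProduct.tmul_mul_tmul, mul_one]
      exact h _
    rw [this, ← RingHom.mapMatrix_apply, ← RingHom.map_det]
    exact (hunit _).symm
  rw [omegaFree_iff b, omegaFree_iff b']
  constructor
  · rintro ⟨g, hg⟩
    let g' : Disc.Omega k (k ⊗[R] C) := ⟨((Algebra.linearMap R k).comp g.toLinearMap).liftBaseChange k⟩
    exact ⟨g', (hmat g g' fun x => by simp [g']).2 hg⟩
  · rintro ⟨g', hg⟩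
    choose c hc using fun i => hk (g'.toLinearMap ((1 : k) ⊗ₜ b i))
    let g : Disc.Omega R C := ⟨b.constr R c⟩
    refine ⟨g, (hmat g g' fun x => ?_).1 hg⟩
    have : (g'.toLinearMap.restrictScalars R) ∘ₗ (TensorProduct.mk R k C 1) =
        (Algebra.linearMap R k) ∘ₗ g.toLinearMap := b.ext fun i => by simp [g, hc]
    exact LinearMap.congr_fun this x

/-- An invertible `ω` over a field is free. -/
theorem omegaFree_of_invertible {k C : Type u} [Field k] [CommRing C] [Algebra k C] [Module.Finite k C]
    (h : Module.Invertible C (Disc.Omega k C)) : OmegaFree k C := by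
  have : IsArtinianRing C := IsArtinianRing.of_finite k C
  exact Module.Invertible.free_iff_linearEquiv.1 inferInstance

section Artinian

variable {k : Type u} [Field k] [Algebra k C] [Module.Finite k C] [IsLocalRing C]

/-- For an artinian local algebra over a field, `ω` is free iff the ring is Gorenstein. -/
theorem omegaFree_iff_gorenstein : OmegaFree k C ↔ LocCoh.IsGorensteinLocalRing C := by
  classical
  have : IsArtinianRing C := IsArtinianRing.of_finite k C
  rw [GorLib.gorenstein_iff_socCyclic]
  constructor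
  · rintro ⟨L⟩
    let g := L.symm 1
    have hnd : ∀ z : C, (∀ y, g.toLinearMap (z * y) = 0) → z = 0 := by
      intro z hz
      have : z • g = 0 := Disc.Omega.ext (LinearMap.ext fun y => hz y)
      have := congrArg L this
      rwa [map_smul, L.apply_symm_apply, map_zero, smul_eq_mul, mul_one] at this
    obtain ⟨s, hs0, hs⟩ := exists_notMem_mul_maximalIdeal (S := C)
    refine ⟨s, hs0, fun a ha => by rw [mul_comm]; exact hs a ha, fun x hx => ?_⟩
    by_contra hxs
    obtain ⟨ψ, hψx, hψ⟩ := Submodule.exists_dual_map_eq_bot_of_notMem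
      (p := (Ideal.span {s}).restrictScalars k) hxs inferInstance
    have hc : ∀ y, ψ y = g.toLinearMap (L ⟨ψ⟩ * y) := fun y => by
      have : (L ⟨ψ⟩) • g = ⟨ψ⟩ := L.injective (by rw [map_smul, L.apply_symm_apply, smul_eq_mul, mul_one])
      exact (LinearMap.congr_fun (congrArg Disc.Omega.toLinearMap this) y).symm
    have hcs : L ⟨ψ⟩ * s = 0 := hnd _ fun y => by
      rw [mul_assoc, ← hc]
      have hmem : ψ (s * y) ∈ ((Ideal.span {s}).restrictScalars k).map ψ :=
        Submodule.mem_map_of_mem (Ideal.mul_mem_right _ _ (Ideal.mem_span_singleton_self s))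
      rwa [hψ, Submodule.mem_bot] at hmem
    have hcm : L ⟨ψ⟩ ∈ IsLocalRing.maximalIdeal C := by
      refine (IsLocalRing.mem_maximalIdeal _).2 fun hu => hs0 ?_
      exact hu.mul_right_eq_zero.1 hcs
    exact hψx (by rw [hc, hx _ hcm, map_zero])
  · rintro ⟨s, hs0, hs, hsoc⟩
    obtain ⟨l, hl⟩ := Module.Projective.exists_dual_ne_zero k hs0
    let T : C →ₗ[k] Module.Dual k C :=
      { toFun := fun c => l ∘ₗ LinearMap.mulLeft k c
        map_add' := fun x y => LinearMap.ext fun z => by simp [add_mul]
        map_smul' := fun a x => LinearMap.ext fun z => by simp }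
    have hinj : Function.Injective T := by
      refine (injective_iff_map_eq_zero T).2 fun c hc => ?_
      by_contra hc0
      let J : Submodule C C := Ideal.span {c}
      obtain ⟨J₀, hJ₀, hmin⟩ := IsArtinian.set_has_minimal {J' : Submodule C C | J' ≤ J ∧ J' ≠ ⊥}
        ⟨J, le_rfl, fun h => hc0 ((Submodule.eq_bot_iff _).1 h c (Ideal.mem_span_singleton_self c))⟩
      obtain ⟨t, ht, ht0⟩ := (Submodule.ne_bot_iff _).1 hJ₀.2
      have htm : ∀ a ∈ IsLocalRing.maximalIdeal C, a * t = 0 := by
        intro a ha
        by_contra hat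
        have hle : Ideal.span {a * t} ≤ J₀ := (Ideal.span_singleton_le_iff_mem _).2 (Ideal.mul_mem_left _ _ ht)
        have heq : Ideal.span {a * t} = J₀ := (lt_or_eq_of_le hle).resolve_left (hmin _ ⟨hle.trans hJ₀.1, fun h =>
          hat ((Submodule.eq_bot_iff _).1 h _ (Ideal.mem_span_singleton_self _))⟩)
        obtain ⟨d, hd⟩ := Ideal.mem_span_singleton'.1 (heq.ge ht)
        have hu : IsUnit (1 - d * a) := IsLocalRing.isUnit_one_sub_self_of_mem_nonunits _
          ((IsLocalRing.mem_maximalIdeal _).1 (Ideal.mul_mem_left _ d ha))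
        exact ht0 (hu.mul_right_eq_zero.1 (by rw [sub_mul, one_mul, mul_assoc, hd, sub_self]))
      obtain ⟨d, hd⟩ := Ideal.mem_span_singleton'.1 (hJ₀.1 ht)
      obtain ⟨e, he⟩ := Ideal.mem_span_singleton'.1 (hsoc t htm)
      have heu : IsUnit e := by
        by_contra hne
        exact ht0 (he ▸ hs e ((IsLocalRing.mem_maximalIdeal _).2 hne))
      obtain ⟨u, rfl⟩ := heu
      refine hl ?_
      have h1 : s = c * (d * (↑u⁻¹ : C)) := by
        rw [← mul_assoc, mul_comm c d, hd, ← he, mul_comm (u : C) s, mul_assoc, Units.mul_inv, mul_one]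
      rw [h1]
      exact LinearMap.congr_fun hc _
    have hsurj : Function.Surjective T :=
      (LinearMap.injective_iff_surjective_of_finrank_eq_finrank (Subspace.dual_finrank_eq (K := k) (V := C)).symm).1 hinj
    refine ⟨(LinearEquiv.ofBijective (LinearMap.toSpanSingleton C (Disc.Omega k C) ⟨l⟩)
      ⟨fun x y h => hinj (congrArg Disc.Omega.toLinearMap h), fun ω => ?_⟩).symm⟩
    obtain ⟨c, hc⟩ := hsurj ω.toLinearMap
    exact ⟨c, Disc.Omega.ext hc⟩

end Artinian

end TateLib
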