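import Groth.Agent.TateLib.BaseChange
import Groth.Agent.TateLib.Gor

/-!
# Invertibility of `ω` is fibrewise
-/

set_option autoImplicit false

universe u

open AlgebraicGeometry CategoryTheory TensorProduct IsLocalRing

namespace TateLib

attribute [local instance] Algebra.TensorProduct.rightAlgebra

/-- `Hom_A(B', A)` is a finite `B'`-module. -/
theorem finite_omega (A B' : Type u) [CommRing A] [CommRing B'] [IsNoetherianRing A] [Algebra A B']
    [Module.Finite A B'] : Module.Finite B' (Disc.Omega A B') := by
  classical
  obtain ⟨S, hS⟩ := Module.finite_def.1 (inferInstance : Module.Finite A (Module.Dual A B'))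
  refine ⟨⟨S.image fun l => (⟨l⟩ : Disc.Omega A B'), eq_top_iff.2 fun l _ => ?_⟩⟩
  have hl : l.toLinearMap ∈ Submodule.span A (S : Set (Module.Dual A B')) := hS ▸ Submodule.mem_top
  suffices H : ∀ ψ ∈ Submodule.span A (S : Set (Module.Dual A B')),
      (⟨ψ⟩ : Disc.Omega A B') ∈ Submodule.span B' ((S.image fun l => (⟨l⟩ : Disc.Omega A B') : Finset _) : Set (Disc.Omega A B'))
    from H _ hl
  intro ψ hψ
  induction hψ using Submodule.span_induction with
  | mem x hx => exact Submodule.subset_span (by rw [Finset.coe_image]; exact ⟨x, hx, rfl⟩)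
  | zero => exact Submodule.zero_mem _
  | add x y _ _ hx hy => exact Submodule.add_mem _ hx hy
  | smul r x _ hx =>
    rw [show (⟨r • x⟩ : Disc.Omega A B') = algebraMap A B' r • ⟨x⟩ from
      Disc.Omega.ext (QFDualLib.omega_algebraMap_smul r ⟨x⟩).symm]
    exact Submodule.smul_mem _ _ hx

/-- Over a field, `ω` of the open immersion is `ω` of the open piece. -/
theorem omegaFree_of_invertible_qf {k B'₁ B₁ : Type u} [Field k] [CommRing B'₁] [CommRing B₁] [Algebra k B'₁]
    [Algebra k B₁] [Algebra B'₁ B₁] [IsScalarTower k B'₁ B₁] [Module.Finite k B'₁] [Module.Finite k B₁]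
    (hepi : Epi (CommRingCat.ofHom (algebraMap B'₁ B₁))) (hflat : Module.Flat B'₁ B₁)
    (h : Module.Invertible B₁ (B₁ ⊗[B'₁] Disc.Omega k B'₁)) : OmegaFree k B₁ := by
  let π' : B'₁ →ₐ[k] B₁ := IsScalarTower.toAlgHom k B'₁ B₁
  have : Epi (CommRingCat.ofHom π'.toRingHom) := hepi
  obtain ⟨hs, e', hkil, hπe⟩ := exists_section π' (RingHom.flat_algebraMap_iff.2 hflat)
  have : Module.FinitePresentation k B'₁ := Module.finitePresentation_of_finite k B'₁
  obtain ⟨E⟩ := nonempty_equiv_omega (A := k) (Ah := k) (B' := B'₁) (B'h := B'₁) (C := B₁)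
    (inferInstance : Algebra.IsPushout k k B'₁ B'₁) π' hs (fun _ => rfl) hkil hπe
  have : Module.Invertible B₁ (Disc.Omega k B₁) := Module.Invertible.congr E
  exact omegaFree_of_invertible this

/-- Invertibility of `ω` on all fibres gives invertibility. -/
theorem invertible_omega_of_fibres (A B' B : Type u) [CommRing A] [CommRing B'] [CommRing B] [IsNoetherianRing A]
    [Algebra A B'] [Algebra B' B] [Algebra A B] [IsScalarTower A B' B] [Module.Finite A B'] [Module.Flat A B]
    (hopen : IsOpenImmersion (Spec.map (CommRingCat.ofHom (algebraMap B' B))))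
    (hfib : ∀ (p : Ideal A) [p.IsPrime], OmegaFree p.ResidueField (p.ResidueField ⊗[A] B)) :
    Module.Invertible B (B ⊗[B'] Disc.Omega A B') := by
  have := finitePresentation_of_openImmersion A B' B hopen
  have : IsNoetherianRing B := Algebra.FiniteType.isNoetherianRing A B
  have := finite_omega A B'
  have := quasiFinite_of_openImmersion A B' B hopen
  refine invertible_of_charts fun M _ => ?_
  obtain ⟨Ah, _, _, _, _, _, _, _, hk, C, _, _, hflat, hQ, _, _, _, _, _, _, ⟨Ek⟩, ⟨E⟩, -⟩ :=
    exists_component A B' B hopen M
  let p : Ideal A := M.comap (algebraMap A B)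
  have : Module.Finite p.ResidueField (p.ResidueField ⊗[A] B) := Algebra.QuasiFinite.finite_fiber (R := A) (S := B) p
  obtain ⟨L⟩ := (omegaFree_fibre_iff p.ResidueField hk).2 ((hfib p).of_algEquiv Ek)
  exact ⟨C, inferInstance, inferInstance, hflat, hQ, ⟨E.trans L⟩⟩

/-- Invertibility of the fibre module gives freeness on the fibre. -/
theorem omegaFree_fibre {A B' B : Type u} [CommRing A] [CommRing B'] [CommRing B]
    [Algebra A B'] [Algebra B' B] [Algebra A B] [IsScalarTower A B' B] [Module.Finite A B']
    [Algebra.FiniteType A B]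
    (hopen : IsOpenImmersion (Spec.map (CommRingCat.ofHom (algebraMap B' B)))) (p : Ideal A) [p.IsPrime]
    [Algebra (p.ResidueField ⊗[A] B') (p.ResidueField ⊗[A] B)]
    [IsScalarTower p.ResidueField (p.ResidueField ⊗[A] B') (p.ResidueField ⊗[A] B)]
    (halg : ∀ z, algebraMap (p.ResidueField ⊗[A] B') (p.ResidueField ⊗[A] B) z =
      Algebra.TensorProduct.map (AlgHom.id p.ResidueField p.ResidueField) (IsScalarTower.toAlgHom A B' B) z)
    (h : Module.Invertible (p.ResidueField ⊗[A] B)
      ((p.ResidueField ⊗[A] B) ⊗[p.ResidueField ⊗[A] B'] Disc.Omega p.ResidueField (p.ResidueField ⊗[A] B'))) :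
    OmegaFree p.ResidueField (p.ResidueField ⊗[A] B) := by
  have := quasiFinite_of_openImmersion A B' B hopen
  have : Module.Finite p.ResidueField (p.ResidueField ⊗[A] B) := Algebra.QuasiFinite.finite_fiber (R := A) (S := B) p
  have halg' : algebraMap (p.ResidueField ⊗[A] B') (p.ResidueField ⊗[A] B) =
      (RingHom.id _).comp (Algebra.TensorProduct.map (AlgHom.id p.ResidueField p.ResidueField)
        (IsScalarTower.toAlgHom A B' B)).toRingHom := RingHom.ext halg
  refine omegaFree_of_invertible_qf ?_ ?_ h
  · rw [halg']
    exact epi_completed hopen (RingHom.id _) Function.surjective_id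
  · rw [← RingHom.flat_algebraMap_iff, halg', RingHom.id_comp]
    have hgflat : (IsScalarTower.toAlgHom A B' B).Flat := by
      have : Flat (Spec.map (CommRingCat.ofHom (algebraMap B' B))) := inferInstance
      exact (HasRingHomProperty.Spec_iff (P := @Flat)).1 this
    have hidflat : (AlgHom.id A p.ResidueField).Flat := RingHom.Flat.id p.ResidueField
    exact RingHom.Flat.tensorProductMap hidflat hgflat

end TateLib

namespace TateLib

attribute [local instance] Algebra.TensorProduct.rightAlgebra

/-- For a finite algebra over a field, `ω` is invertible iff the algebra is Gorenstein. -/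
theorem invertible_omega_iff_gorenstein (k F : Type u) [Field k] [CommRing F] [Algebra k F] [Module.Finite k F] :
    Module.Invertible F (Disc.Omega k F) ↔ LocCoh.IsGorensteinRing F := by
  have : IsArtinianRing F := IsArtinianRing.of_finite k F
  have : Module.FinitePresentation k F := Module.finitePresentation_of_finite k F
  have loc : ∀ (M : Ideal F) [M.IsPrime], Module.Finite k (Localization.AtPrime M) ∧
      Nonempty (Localization.AtPrime M ⊗[F] Disc.Omega k F ≃ₗ[Localization.AtPrime M]
        Disc.Omega k (Localization.AtPrime M)) := by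
    intro M _
    let L := Localization.AtPrime M
    have hs0 : Function.Surjective (algebraMap F L) := IsArtinianRing.localization_surjective M.primeCompl L
    let π' : F →ₐ[k] L := IsScalarTower.toAlgHom k F L
    have : Module.Finite k L := Module.Finite.of_surjective π'.toLinearMap hs0
    refine ⟨this, ?_⟩
    have : Epi (CommRingCat.ofHom π'.toRingHom) := ⟨fun {T} u v huv => by
      ext x
      obtain ⟨y, rfl⟩ := hs0 x
      exact RingHom.congr_fun (congrArg CommRingCat.Hom.hom huv) y⟩
    obtain ⟨hs, e', hkil, hπe⟩ := exists_section π' (RingHom.flat_algebraMap_iff.2 (IsLocalization.flat L M.primeCompl))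
    exact nonempty_equiv_omega (A := k) (Ah := k) (B' := F) (B'h := F) (C := L)
      (inferInstance : Algebra.IsPushout k k F F) π' hs (fun _ => rfl) hkil hπe
  constructor
  · intro h
    refine ⟨fun p _ => ?_⟩
    obtain ⟨_, ⟨E⟩⟩ := loc p
    exact omegaFree_iff_gorenstein.1 (omegaFree_of_invertible (k := k) (Module.Invertible.congr E))
  · intro h
    have := finite_omega k F
    refine invertible_of_charts fun M _ => ?_
    obtain ⟨_, ⟨E⟩⟩ := loc M
    obtain ⟨L⟩ := (omegaFree_iff_gorenstein (k := k)).2 (h.isGorensteinLocalRing_localization M)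
    exact ⟨Localization.AtPrime M, inferInstance, inferInstance, IsLocalization.flat _ M.primeCompl,
      ⟨IsLocalRing.maximalIdeal _, inferInstance, IsLocalization.AtPrime.under_maximalIdeal (Localization.AtPrime M) M⟩,
      ⟨E.trans L⟩⟩

/-- For a finite free algebra, `ω` is invertible iff the fibres are Gorenstein. -/
theorem gorenstein_fibres_iff_invertible (A B : Type u) [CommRing A] [CommRing B] [Algebra A B] [IsNoetherianRing A]
    [Module.Finite A B] [Module.Free A B] :
    (∀ (p : Ideal A) [p.IsPrime], LocCoh.IsGorensteinRing (p.ResidueField ⊗[A] B)) ↔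
      Module.Invertible B (Disc.Omega A B) := by
  constructor
  · intro h
    have hopen : IsOpenImmersion (Spec.map (CommRingCat.ofHom (algebraMap B B))) := by
      rw [show CommRingCat.ofHom (algebraMap B B) = 𝟙 _ from rfl, Spec.map_id]
      infer_instance
    have hinv := invertible_omega_of_fibres A B B hopen fun p _ =>
      omegaFree_of_invertible ((invertible_omega_iff_gorenstein p.ResidueField _).2 (h p))
    exact Module.Invertible.congr (TensorProduct.lid B (Disc.Omega A B))
  · intro h p _
    refine (invertible_omega_iff_gorenstein p.ResidueField _).1 ?_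
    let F := p.ResidueField ⊗[A] B
    have hP : Algebra.IsPushout A p.ResidueField B F := TensorProduct.isPushout
    let e := LinearEquiv.ofBijective _
      (omegaBC_bijective_of_dual (B₁ := F) hP (QFDualLib.toDual_lift_bijective_free hP.out))
    exact Module.Invertible.congr (e.trans (TensorProduct.lid F (Disc.Omega p.ResidueField F)))

end TateLib
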