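import Mathlib

/-!
# Trace of a finite local algebra
-/

set_option autoImplicit false
universe u
open IsLocalRing

namespace TateLib.ArtTrace

variable {k A : Type u} [Field k] [CommRing A] [Algebra k A] [FiniteDimensional k A] [IsLocalRing A]

theorem trace_lsmul_simple (M : Type u) [AddCommGroup M] [Module A M] [Module k M] [IsScalarTower k A M]
    [IsSimpleModule A M] (a : A) :
    LinearMap.trace k M (Algebra.lsmul k k M a) = Algebra.trace k (ResidueField A) (residue A a) := by
  obtain ⟨I, hI, ⟨e⟩⟩ := isSimpleModule_iff_quot_maximal.1 (inferInstance : IsSimpleModule A M)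
  obtain rfl := IsLocalRing.eq_maximalIdeal hI
  let e' : M ≃ₗ[k] ResidueField A := e.restrictScalars k
  rw [← LinearMap.trace_conj' (Algebra.lsmul k k M a) e', Algebra.trace_apply]
  congr 1
  refine LinearMap.ext fun y => ?_
  obtain ⟨m, rfl⟩ := e'.surjective y
  rw [LinearEquiv.conj_apply, LinearMap.comp_apply, LinearMap.comp_apply]
  show e (a • e'.symm (e' m)) = residue A a * (e' m)
  rw [LinearEquiv.symm_apply_apply, map_smul, Algebra.smul_def]
  rfl

theorem trace_lsmul_eq_add (M : Type u) [AddCommGroup M] [Module A M] [Module k M] [IsScalarTower k A M]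
    [Module.Finite k M] (N : Submodule A M) (a : A) :
    LinearMap.trace k M (Algebra.lsmul k k M a) =
      LinearMap.trace k N (Algebra.lsmul k k N a) + LinearMap.trace k (M ⧸ N) (Algebra.lsmul k k (M ⧸ N) a) := by
  let ι : N →ₗ[k] M := N.subtype.restrictScalars k
  let π : M →ₗ[k] M ⧸ N := N.mkQ.restrictScalars k
  obtain ⟨σ, hσ⟩ := π.exists_rightInverse_of_surjective (LinearMap.range_eq_top.2 N.mkQ_surjective)
  have hσ' : ∀ y, π (σ y) = y := fun y => LinearMap.congr_fun hσ y
  let p : M →ₗ[k] N :=
    { toFun := fun x => ⟨x - σ (π x), (Submodule.Quotient.mk_eq_zero N).1 (by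
        show π (x - σ (π x)) = 0
        rw [map_sub, hσ', sub_self])⟩
      map_add' := fun x y => Subtype.ext (by simp; abel)
      map_smul' := fun c x => Subtype.ext (by simp [smul_sub]) }
  let f : M →ₗ[k] M := Algebra.lsmul k k M a
  have hid : f = ι ∘ₗ (p ∘ₗ f) + σ ∘ₗ (π ∘ₗ f) := LinearMap.ext fun x => by simp [p, ι]
  have h1 : (p ∘ₗ f) ∘ₗ ι = Algebra.lsmul k k N a := by
    refine LinearMap.ext fun x => Subtype.ext ?_
    show a • (x : M) - σ (π (a • (x : M))) = a • (x : M)
    rw [show π (a • (x : M)) = 0 from (Submodule.Quotient.mk_eq_zero N).2 (N.smul_mem a x.2), map_zero, sub_zero]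
  have h2 : (π ∘ₗ f) ∘ₗ σ = Algebra.lsmul k k (M ⧸ N) a := by
    refine LinearMap.ext fun y => ?_
    show N.mkQ (a • σ y) = a • y
    rw [map_smul]
    exact congrArg (a • ·) (hσ' y)
  have : Module.Finite k N := Module.Finite.of_injective ι N.injective_subtype
  have : Module.Finite k (M ⧸ N) := Module.Finite.of_surjective π N.mkQ_surjective
  show LinearMap.trace k M f = _
  rw [hid, map_add, LinearMap.trace_comp_comm' (p ∘ₗ f) ι, LinearMap.trace_comp_comm' (π ∘ₗ f) σ, h1, h2]

theorem trace_lsmul_eq_length (M : Type u) [AddCommGroup M] [Module A M] [Module k M] [IsScalarTower k A M]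
    [Module.Finite k M] (a : A) :
    LinearMap.trace k M (Algebra.lsmul k k M a) =
      ((Module.length A M).toNat : k) * Algebra.trace k (ResidueField A) (residue A a) := by
  induction hd : Module.finrank k M using Nat.strong_induction_on generalizing M with
  | _ d ih =>
    rcases subsingleton_or_nontrivial M with hM | hM
    · rw [Module.length_eq_zero, ENat.toNat_zero, Nat.cast_zero, zero_mul,
        Subsingleton.elim (Algebra.lsmul k k M a) 0, map_zero]
    · have : IsArtinianRing A := IsArtinianRing.of_finite k A
      have : Module.Finite A M := Module.Finite.of_restrictScalars_finite k A M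
      obtain ⟨N, hN⟩ := IsAtomic.exists_atom (Submodule A M)
      have : IsSimpleModule A N := isSimpleModule_iff_isAtom.2 hN
      have : Module.Finite k N := Module.Finite.of_injective (N.subtype.restrictScalars k) N.injective_subtype
      have hlt : Module.finrank k (M ⧸ N) < d := by
        have h1 : Module.finrank k (M ⧸ N) = Module.finrank k M - Module.finrank k N := by
          have := Submodule.finrank_quotient_add_finrank (N.restrictScalars k)
          have e : Module.finrank k (M ⧸ N.restrictScalars k) = Module.finrank k (M ⧸ N) :=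
            LinearEquiv.finrank_eq (Submodule.Quotient.restrictScalarsEquiv k N)
          have e2 : Module.finrank k (N.restrictScalars k) = Module.finrank k N := rfl
          omega
        have h2 : 0 < Module.finrank k N := by
          have : Nontrivial N := IsSimpleModule.nontrivial A N
          exact Module.finrank_pos
        have h3 : 0 < Module.finrank k M := Module.finrank_pos
        omega
      have : Module.Finite k (M ⧸ N) := Module.Finite.of_surjective (N.mkQ.restrictScalars k) N.mkQ_surjective
      have hlen : Module.length A M = 1 + Module.length A (M ⧸ N) := by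
        rw [Module.length_eq_add_of_exact N.subtype N.mkQ N.injective_subtype N.mkQ_surjective
          (LinearMap.exact_subtype_mkQ N), Module.length_eq_one_iff.2 inferInstance]
      have hfin : Module.length A (M ⧸ N) ≠ ⊤ := Module.length_ne_top
      rw [trace_lsmul_eq_add M N a, trace_lsmul_simple N a, ih _ hlt (M ⧸ N) rfl, hlen,
        ENat.toNat_add (by simp) hfin]
      push_cast
      simp [add_mul]

theorem main :
    Algebra.trace k A ≠ 0 ↔ (Algebra.IsSeparable k (ResidueField A) ∧
        ∀ p : ℕ, p.Prime → CharP k p → ¬ p ∣ (Module.length A A).toNat) := by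
  have htr : ∀ a, Algebra.trace k A a =
      ((Module.length A A).toNat : k) * Algebra.trace k (ResidueField A) (residue A a) := fun a => by
    rw [← trace_lsmul_eq_length A a, Algebra.trace_apply]
    congr 1
  have : FiniteDimensional k (ResidueField A) :=
    Module.Finite.of_surjective (IsScalarTower.toAlgHom k A (ResidueField A)).toLinearMap residue_surjective
  constructor
  · intro h
    refine ⟨?_, fun p hp hc hdvd => h (LinearMap.ext fun a => ?_)⟩
    · by_contra hs
      exact h (LinearMap.ext fun a => by
        rw [htr, Algebra.trace_eq_zero_of_not_isSeparable hs, LinearMap.zero_apply, LinearMap.zero_apply, mul_zero])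
    · rw [htr, (CharP.cast_eq_zero_iff k p _).2 hdvd, zero_mul, LinearMap.zero_apply]
  · rintro ⟨hs, hl⟩ h
    have hne : ((Module.length A A).toNat : k) ≠ 0 := by
      intro h0
      obtain ⟨q, hq⟩ := CharP.exists k
      rcases CharP.char_is_prime_or_zero k q with hq' | hq'
      · exact hl q hq' hq ((CharP.cast_eq_zero_iff k q _).1 h0)
      · subst hq'
        have hdvd := (CharP.cast_eq_zero_iff k 0 _).1 h0
        rw [zero_dvd_iff, ENat.toNat_eq_zero] at hdvd
        have : IsArtinianRing A := IsArtinianRing.of_finite k A
        rcases hdvd with h1 | h1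
        · exact not_subsingleton A (Module.length_eq_zero_iff.1 h1)
        · exact Module.length_ne_top h1
    refine Algebra.trace_ne_zero k (ResidueField A) (LinearMap.ext fun x => ?_)
    obtain ⟨a, rfl⟩ := residue_surjective x
    have := htr a
    rw [h, LinearMap.zero_apply] at this
    rw [LinearMap.zero_apply]
    exact (mul_eq_zero.1 this.symm).resolve_left hne

end TateLib.ArtTrace
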