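import Groth.Agent.TateLib.Delta
import Groth.Prelude.Def_Fitting
import Mathlib.RingTheory.Kaehler.Basic
import Mathlib.LinearAlgebra.Matrix.SchurComplement

/-!
# The Kähler different of a square presentation

The zeroth Fitting ideal of a module with a square presentation is generated by the determinant; applied to
`Ω_{B/A}` for `B = A[x₁, …, xₙ]/(f₁, …, fₙ)` this gives the Jacobian determinant.
-/

set_option autoImplicit false

universe u v

open MvPolynomial

namespace TateLib

/-- The zeroth Fitting ideal of a module with a square presentation matrix. -/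
theorem fitt_zero_eq {R : Type u} [CommRing R] {M : Type v} [AddCommGroup M] [Module R M] {n : ℕ}
    (e : Fin n → M) (he : Submodule.span R (Set.range e) = ⊤) (P : Matrix (Fin n) (Fin n) R)
    (hP : ∀ i, ∑ j, P i j • e j = 0)
    (hrel : ∀ w : Fin n → R, ∑ j, w j • e j = 0 → ∃ d : Fin n → R, Matrix.vecMul d P = w) :
    Fitt.ideal R M 0 = Ideal.span {P.det} := by
  classical
  refine le_antisymm (Ideal.span_le.2 ?_) ((Ideal.span_singleton_le_iff_mem _).2
    (Ideal.subset_span ⟨n, e, P, he, fun i _ => hP i, rfl⟩))
  rintro _ ⟨m, x, a, hx, ha, rfl⟩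
  have hmemx : ∀ z, ∃ c : Fin m → R, ∑ j, c j • x j = z := fun z =>
    (Submodule.mem_span_range_iff_exists_fun R).1 (hx.ge trivial)
  have hmeme : ∀ z, ∃ c : Fin n → R, ∑ j, c j • e j = z := fun z =>
    (Submodule.mem_span_range_iff_exists_fun R).1 (he.ge trivial)
  choose E hE using fun j => hmemx (e j)
  choose C hC using fun k => hmeme (x k)
  -- rows `(u, w)` of relations among `(x, e)` factor through `[[1, -C], [0, P]]`
  have hfac : ∀ (u : Fin m → R) (w : Fin n → R), ∑ k, u k • x k + ∑ j, w j • e j = 0 →
      ∃ d : Fin n → R, Matrix.vecMul d P = Matrix.vecMul u (Matrix.of C) + w := by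
    intro u w h
    refine hrel _ ?_
    simp only [Pi.add_apply, Matrix.vecMul, dotProduct, Matrix.of_apply, add_smul, Finset.sum_add_distrib,
      Finset.sum_smul]
    rw [Finset.sum_comm]
    simp only [mul_smul, ← Finset.smul_sum, hC]
    exact h
  choose d₁ hd₁ using fun i : Fin m => hfac (a i) 0 (by
    simp only [Pi.zero_apply, zero_smul, Finset.sum_const_zero, add_zero]
    exact ha i (by simp))
  choose d₂ hd₂ using fun j : Fin n => hfac (-(E j)) (Pi.single j 1) (by
    simp [hE, Pi.single_apply])
  let big : Matrix (Fin m ⊕ Fin n) (Fin m ⊕ Fin n) R := Matrix.fromBlocks a 0 (-Matrix.of E) 1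
  let rel : Matrix (Fin m ⊕ Fin n) (Fin m ⊕ Fin n) R := Matrix.fromBlocks 1 (-Matrix.of C) 0 P
  let co : Matrix (Fin m ⊕ Fin n) (Fin m ⊕ Fin n) R := Matrix.fromBlocks a (Matrix.of d₁) (-Matrix.of E) (Matrix.of d₂)
  have hprod : big = co * rel := by
    simp only [big, co, rel, Matrix.fromBlocks_multiply]
    refine Matrix.fromBlocks_inj.2 ⟨by simp, ?_, by simp, ?_⟩
    · ext i j
      have := congrFun (hd₁ i) j
      simp only [add_zero] at this
      simp only [Matrix.add_apply, Matrix.mul_neg, Matrix.neg_apply, Matrix.zero_apply]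
      rw [show (Matrix.of d₁ * P) i j = Matrix.vecMul (d₁ i) P j from rfl, this]
      simp [Matrix.mul_apply, Matrix.vecMul, dotProduct]
    · ext i j
      have := congrFun (hd₂ i) j
      simp only [Matrix.add_apply, Matrix.mul_neg, Matrix.neg_apply]
      rw [show (Matrix.of d₂ * P) i j = Matrix.vecMul (d₂ i) P j from rfl, this]
      simp [Matrix.mul_apply, Matrix.vecMul, dotProduct, Matrix.one_apply, Pi.single_apply, eq_comm]
  have hdet := congrArg Matrix.det hprod
  rw [Matrix.det_mul, Matrix.det_fromBlocks_zero₁₂, Matrix.det_fromBlocks_zero₂₁, Matrix.det_one,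
    Matrix.det_one, mul_one, one_mul] at hdet
  exact Ideal.mem_span_singleton'.2 ⟨_, hdet.symm⟩

section Kaehler

variable {A : Type u} [CommRing A] {n : ℕ} {B : Type u} [CommRing B] [Algebra A B]
  {φ : MvPolynomial (Fin n) A →ₐ[A] B} {f : Fin n → MvPolynomial (Fin n) A}

/-- The Kähler different of a square presentation is generated by the Jacobian determinant. -/
theorem fitt_kaehler_eq (hφ : Function.Surjective φ) (hker : RingHom.ker φ.toRingHom = Ideal.span (Set.range f)) :
    Fitt.ideal B (Ω[B⁄A]) 0 = Ideal.span {φ (jac f)} := by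
  classical
  let J : Matrix (Fin n) (Fin n) B := Matrix.of fun i j => φ (pderiv j (f i))
  let e : Fin n → Ω[B⁄A] := fun j => KaehlerDifferential.D A B (φ (X j))
  have hD : ∀ p, KaehlerDifferential.D A B (φ p) = ∑ j, φ (pderiv j p) • e j := by
    intro p
    induction p using MvPolynomial.induction_on with
    | C a =>
      rw [show φ (C a) = algebraMap A B a from φ.commutes a, Derivation.map_algebraMap]
      simp
    | add p q hp hq => simp only [map_add, hp, hq, add_smul, Finset.sum_add_distrib]
    | mul_X p k hp =>
      rw [map_mul, Derivation.leibniz, hp, Finset.smul_sum]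
      simp only [Derivation.leibniz, map_add, smul_eq_mul, map_mul, add_smul, Finset.sum_add_distrib, mul_smul]
      congr 1
      rw [Finset.sum_eq_single k (fun j _ hjk => by simp [Ne.symm hjk]) (by simp)]
      simp [e]
  have hf0 : ∀ i, φ (f i) = 0 := fun i =>
    RingHom.mem_ker.1 (hker.ge (Ideal.subset_span ⟨i, rfl⟩))
  rw [show φ (jac f) = J.det from RingHom.map_det φ.toRingHom _]
  refine fitt_zero_eq e (eq_top_iff.2 ?_) J (fun i => ?_) fun w hw => ?_
  · rw [← KaehlerDifferential.span_range_derivation, Submodule.span_le]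
    rintro _ ⟨y, rfl⟩
    obtain ⟨p, rfl⟩ := hφ y
    rw [hD]
    exact Submodule.sum_mem _ fun j _ => Submodule.smul_mem _ _ (Submodule.subset_span ⟨j, rfl⟩)
  · show ∑ j, φ (pderiv j (f i)) • e j = 0
    rw [← hD, hf0, map_zero]
  · -- the universal derivation into `Bⁿ / rows`
    let W := (Fin n → B) ⧸ Submodule.span B (Set.range fun i => J i)
    let δ : MvPolynomial (Fin n) A → W := fun p => Submodule.Quotient.mk fun j => φ (pderiv j p)
    have δadd : ∀ p q, δ (p + q) = δ p + δ q := fun p q => by
      rw [← Submodule.Quotient.mk_add]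
      exact congrArg _ (_root_.funext fun j => by simp)
    have δmul : ∀ p q, δ (p * q) = φ p • δ q + φ q • δ p := fun p q => by
      simp only [δ, ← Submodule.Quotient.mk_smul, ← Submodule.Quotient.mk_add]
      exact congrArg _ (_root_.funext fun j => by simp [Derivation.leibniz])
    have δker : ∀ p, φ p = 0 → δ p = 0 := by
      intro p hp
      obtain ⟨c, rfl⟩ := Ideal.mem_span_range_iff_exists_fun.1
        ((show p ∈ Ideal.span (Set.range f) from hker ▸ (RingHom.mem_ker.2 hp)))
      refine (Submodule.Quotient.mk_eq_zero _).2 ?_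
      have : (fun j => φ (pderiv j (∑ i, c i * f i))) = ∑ i, φ (c i) • J i := by
        funext j
        rw [map_sum, map_sum, Finset.sum_apply]
        refine Finset.sum_congr rfl fun i _ => ?_
        simp [Derivation.leibniz, hf0, J]
      rw [this]
      exact Submodule.sum_mem _ fun i _ => Submodule.smul_mem _ _ (Submodule.subset_span ⟨i, rfl⟩)
    have δeq : ∀ p q, φ p = φ q → δ p = δ q := fun p q h => by
      have := δker (p - q) (by rw [map_sub, h, sub_self])
      have h2 := δadd (p - q) q
      rwa [sub_add_cancel, this, zero_add] at h2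
    let s : B → MvPolynomial (Fin n) A := fun y => Function.surjInv hφ y
    have hs : ∀ y, φ (s y) = y := fun y => Function.surjInv_eq hφ y
    let d : Derivation A B W :=
      { toFun := fun y => δ (s y)
        map_add' := fun x y => by rw [← δadd]; exact δeq _ _ (by rw [map_add, hs, hs, hs])
        map_smul' := fun a x => by
          show δ (s (a • x)) = a • δ (s x)
          rw [δeq (s (a • x)) (C a * s x) (by rw [map_mul, hs, hs, show φ (C a) = algebraMap A B a from φ.commutes a,
            Algebra.smul_def]), δmul, show φ (C a) = algebraMap A B a from φ.commutes a, algebraMap_smul,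
            show δ (C a) = 0 from by simp [δ]; rfl, smul_zero, add_zero]
        map_one_eq_zero' := by
          show δ (s 1) = 0
          rw [δeq (s 1) (C 1) (by rw [hs, map_one, map_one])]
          simp [δ]; rfl
        leibniz' := fun x y => by
          show δ (s (x * y)) = x • δ (s y) + y • δ (s x)
          rw [δeq (s (x * y)) (s x * s y) (by rw [map_mul, hs, hs, hs]), δmul, hs, hs] }
    have he : ∀ j, d.liftKaehlerDifferential (e j) = Submodule.Quotient.mk (Pi.single j 1) := fun j => by
      rw [Derivation.liftKaehlerDifferential_comp_D]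
      show δ (s (φ (X j))) = _
      rw [δeq _ (X j) (hs _)]
      refine congrArg _ (_root_.funext fun k => ?_)
      by_cases hjk : j = k
      · subst hjk; simp
      · simp [hjk, Ne.symm hjk]
    have h0 := congrArg d.liftKaehlerDifferential hw
    rw [map_zero, map_sum] at h0
    simp only [map_smul, he] at h0
    have hsum : ∑ j, w j • (Submodule.Quotient.mk (Pi.single j 1) : W) = Submodule.Quotient.mk w := by
      simp only [← Submodule.mkQ_apply, ← map_smul, ← map_sum]
      exact congrArg _ (pi_eq_sum_univ' w).symm
    rw [hsum, Submodule.Quotient.mk_eq_zero,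
      Submodule.mem_span_range_iff_exists_fun] at h0
    obtain ⟨c, hc⟩ := h0
    exact ⟨c, by rw [← hc]; ext j; simp [Matrix.vecMul, dotProduct, Finset.sum_apply]⟩

end Kaehler

end TateLib
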