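import Groth.Agent.TateLib.QF

/-!
# Base change of `ω` along the components
-/

set_option autoImplicit false

universe u

open AlgebraicGeometry CategoryTheory TensorProduct IsLocalRing

namespace TateLib

attribute [local instance] Algebra.TensorProduct.rightAlgebra

/-- The base change map is bijective whenever the dual commutes with the base change. -/
theorem omegaBC_bijective_of_dual {A B' A₁ B'₁ B₁ : Type u} [CommRing A] [CommRing B'] [CommRing A₁] [CommRing B'₁]
    [CommRing B₁] [Algebra A B'] [Algebra A A₁] [Algebra B' B'₁] [Algebra A₁ B'₁] [Algebra A B'₁]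
    [IsScalarTower A A₁ B'₁] [IsScalarTower A B' B'₁] (h : Algebra.IsPushout A A₁ B' B'₁)
    (hbij : Function.Bijective (LinearMap.liftBaseChange A₁ h.out.toDual)) [Algebra B'₁ B₁] [Algebra B' B₁]
    [IsScalarTower B' B'₁ B₁] : Function.Bijective (QFDual.omegaBC (B₁ := B₁) h) := by
  let e := LinearEquiv.ofBijective _ hbij
  let f : A₁ →+ Module.Dual A B' →+ B₁ ⊗[B'] Disc.Omega A B' :=
    AddMonoidHom.mk' (fun a => AddMonoidHom.mk'
      (fun ψ => algebraMap B'₁ B₁ (algebraMap A₁ B'₁ a) ⊗ₜ[B'] (⟨ψ⟩ : Disc.Omega A B'))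
      (fun ψ χ => by rw [← tmul_add]; rfl))
      (fun a b => by ext ψ; simp [add_tmul])
  have hf : ∀ (r : A) (a : A₁) (ψ : Module.Dual A B'), f (r • a) ψ = f a (r • ψ) := by
    intro r a ψ
    show _ ⊗ₜ[B'] _ = _ ⊗ₜ[B'] _
    rw [show (⟨r • ψ⟩ : Disc.Omega A B') = algebraMap A B' r • ⟨ψ⟩ from
      Disc.Omega.ext (QFDualLib.omega_algebraMap_smul (A' := A) r _).symm, ← smul_tmul]
    congr 1
    rw [Algebra.smul_def, map_mul, map_mul, ← IsScalarTower.algebraMap_apply A A₁ B'₁,
      IsScalarTower.algebraMap_apply A B' B'₁, ← IsScalarTower.algebraMap_apply B' B'₁ B₁, Algebra.smul_def]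
  let G := TensorProduct.liftAddHom f hf
  let g : Disc.Omega A₁ B'₁ →+ B₁ ⊗[B'] Disc.Omega A B' :=
    AddMonoidHom.mk' (fun ω => G (e.symm ω.toLinearMap)) (fun ω η => by
      rw [Disc.Omega.add_toLinearMap, map_add, map_add])
  have hg : ∀ a φ, g (algebraMap A₁ B'₁ a • QFDual.bcFin h φ) =
      algebraMap B'₁ B₁ (algebraMap A₁ B'₁ a) ⊗ₜ[B'] φ := by
    intro a φ
    have : e.symm (algebraMap A₁ B'₁ a • QFDual.bcFin h φ).toLinearMap = a ⊗ₜ φ.toLinearMap := by
      rw [LinearEquiv.symm_apply_eq, QFDualLib.omega_algebraMap_smul]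
      exact (LinearMap.liftBaseChange_tmul _ _ _ _).symm
    show G _ = _
    rw [this]
    rfl
  have hlin : ∀ (c : B'₁) ω, g (c • ω) = algebraMap B'₁ B₁ c • g ω := by
    intro c ω
    induction c using QFDualLib.mul_induction h with
    | h0 => simp
    | hadd c d hc hd => rw [add_smul, map_add, hc, hd, map_add, add_smul]
    | h a b =>
      induction ω using QFDualLib.omega_induction h hbij with
      | h0 => simp
      | hadd x y hx hy => rw [smul_add, map_add, hx, hy, map_add, smul_add]
      | h a' φ =>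
        have e1 : (algebraMap A₁ B'₁ a * algebraMap B' B'₁ b) • (algebraMap A₁ B'₁ a' • QFDual.bcFin h φ) =
            algebraMap A₁ B'₁ (a * a') • QFDual.bcFin h (b • φ) := by
          rw [LinearMap.map_smulₛₗ, smul_smul, smul_smul, map_mul]
          congr 1; ring
        rw [e1, hg, hg, smul_tmul', ← smul_tmul, map_mul, map_mul, map_mul,
          ← IsScalarTower.algebraMap_apply B' B'₁ B₁, smul_eq_mul, Algebra.smul_def]
        congr 1; ring
  let L₀ : B₁ →+ Disc.Omega A₁ B'₁ →+ B₁ ⊗[B'] Disc.Omega A B' :=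
    AddMonoidHom.mk' (fun x => AddMonoidHom.mk' (fun ω => x • g ω) (fun ω η => by rw [map_add, smul_add]))
      (fun x y => by ext ω; simp [add_smul])
  let L : B₁ ⊗[B'₁] Disc.Omega A₁ B'₁ →+ B₁ ⊗[B'] Disc.Omega A B' :=
    TensorProduct.liftAddHom L₀ (fun c x ω => by
      show (c • x) • g ω = x • g (c • ω)
      rw [hlin, Algebra.smul_def, mul_smul, smul_comm])
  have hL : ∀ x ω, L (x ⊗ₜ ω) = x • g ω := fun x ω => rfl
  refine ⟨Function.LeftInverse.injective (g := L) fun z => ?_, fun z => ?_⟩
  · induction z using TensorProduct.induction_on with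
    | zero => simp
    | add x y hx hy => rw [map_add, map_add, hx, hy]
    | tmul x φ =>
      rw [QFDual.omegaBC_tmul, hL, show g (QFDual.bcFin h φ) = (1 : B₁) ⊗ₜ[B'] φ by
        simpa using hg 1 φ, smul_tmul', smul_eq_mul, mul_one]
  · induction z using TensorProduct.induction_on with
    | zero => exact ⟨0, map_zero _⟩
    | add x y hx hy =>
      obtain ⟨u, rfl⟩ := hx; obtain ⟨v, rfl⟩ := hy; exact ⟨u + v, map_add _ _ _⟩
    | tmul x ω =>
      induction ω using QFDualLib.omega_induction h hbij generalizing x with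
      | h0 => exact ⟨0, by simp⟩
      | hadd y z hy hz =>
        obtain ⟨u, hu⟩ := hy x; obtain ⟨v, hv⟩ := hz x
        exact ⟨u + v, by rw [map_add, hu, hv, tmul_add]⟩
      | h a φ =>
        exact ⟨(algebraMap A₁ B'₁ a • x) ⊗ₜ φ, by rw [QFDual.omegaBC_tmul, smul_tmul]⟩


/-- An element is zero if it dies in a flat chart around every maximal ideal. -/
theorem eq_zero_of_charts {B X : Type u} [CommRing B] [AddCommGroup X] [Module B X] (z : X)
    (h : ∀ (M : Ideal B) [M.IsMaximal], ∃ (C : Type u) (_ : CommRing C) (_ : Algebra B C), Module.Flat B C ∧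
      (∃ Q : Ideal C, Q.IsPrime ∧ Q.comap (algebraMap B C) = M) ∧ (1 : C) ⊗ₜ[B] z = 0) : z = 0 := by
  by_contra hz
  obtain ⟨M, hM, hle⟩ := Ideal.exists_le_maximal (LinearMap.ker (LinearMap.toSpanSingleton B X z)) (by
    rw [Ne, Ideal.eq_top_iff_one, LinearMap.mem_ker, LinearMap.toSpanSingleton_apply, one_smul]; exact hz)
  obtain ⟨C, _, _, hflat, ⟨Q, hQ, hQM⟩, hC⟩ := h M
  let J : Ideal B := LinearMap.ker (LinearMap.toSpanSingleton B X z)
  let ι : (B ⧸ J) →ₗ[B] X := J.liftQ (LinearMap.toSpanSingleton B X z) le_rfl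
  have hι : Function.Injective ι :=
    LinearMap.ker_eq_bot.1 (Submodule.ker_liftQ_eq_bot _ _ le_rfl le_rfl)
  have h0 : (1 : C) ⊗ₜ[B] (Ideal.Quotient.mk J 1) = 0 := by
    refine Module.Flat.lTensor_preserves_injective_linearMap ι hι ?_
    rw [map_zero, LinearMap.lTensor_tmul]
    show (1 : C) ⊗ₜ[B] ((1 : B) • z) = 0
    rw [one_smul, hC]
  have h1 : (1 : C) ∈ J.map (algebraMap B C) := by
    have := congrArg (TensorProduct.quotTensorEquivQuotSMul C J) (congrArg (TensorProduct.comm B C (B ⧸ J)) h0)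
    rw [map_zero, map_zero, TensorProduct.comm_tmul, TensorProduct.quotTensorEquivQuotSMul_mk_tmul, one_smul,
      Submodule.Quotient.mk_eq_zero] at this
    rw [Ideal.smul_top_eq_map] at this
    exact this
  exact hQ.ne_top ((Ideal.eq_top_iff_one _).2 ((Ideal.map_le_iff_le_comap.2 (hle.trans hQM.ge)) h1))

/-- An open immersion of affines into a finite scheme over a Noetherian ring is finitely presented. -/
theorem finitePresentation_of_openImmersion (A B' B : Type u) [CommRing A] [CommRing B'] [CommRing B]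
    [IsNoetherianRing A] [Algebra A B'] [Algebra B' B] [Algebra A B] [IsScalarTower A B' B] [Module.Finite A B']
    (h : IsOpenImmersion (Spec.map (CommRingCat.ofHom (algebraMap B' B)))) : Algebra.FinitePresentation A B := by
  have h1 : LocallyOfFinitePresentation (Spec.map (CommRingCat.ofHom (algebraMap B' B))) := inferInstance
  have h2 : (algebraMap B' B).FinitePresentation :=
    (HasRingHomProperty.Spec_iff (P := @LocallyOfFinitePresentation)).1 h1
  have : Algebra.FinitePresentation B' B := RingHom.finitePresentation_algebraMap.1 h2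
  have : Algebra.FinitePresentation A B' := Algebra.FinitePresentation.of_finiteType.1 inferInstance
  exact Algebra.FinitePresentation.trans A B' B

/-- `ω` of a flat quasi-finite algebra is flat. -/
theorem flat_omega (A B' B : Type u) [CommRing A] [CommRing B'] [CommRing B] [IsNoetherianRing A]
    [Algebra A B'] [Algebra B' B] [Algebra A B] [IsScalarTower A B' B] [Module.Finite A B'] [Module.Flat A B]
    (hopen : IsOpenImmersion (Spec.map (CommRingCat.ofHom (algebraMap B' B)))) :
    Module.Flat A (B ⊗[B'] Disc.Omega A B') := by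
  have := finitePresentation_of_openImmersion A B' B hopen
  rw [Module.Flat.iff_lTensor_preserves_injective_linearMap]
  intro X Y _ _ _ _ f hf
  refine (injective_iff_map_eq_zero _).2 fun z hz => eq_zero_of_charts (B := B) z fun M _ => ?_
  obtain ⟨Ah, _, _, _, _, _, _, hAh, -, C, _, _, hflat, hQ, _, _, _, _, hfin, hfree, -, ⟨E⟩, -⟩ :=
    exists_component A B' B hopen M
  refine ⟨C, inferInstance, inferInstance, hflat, hQ, ?_⟩
  let N := B ⊗[B'] Disc.Omega A B'
  have : Module.Flat A (C ⊗[B] N) := by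
    letI : Module A (Disc.Omega Ah C) := Module.compHom _ (algebraMap A C)
    have : IsScalarTower A C (Disc.Omega Ah C) := ⟨fun a c x => by
      rw [Algebra.smul_def, mul_smul]
      rfl⟩
    let D : Module.Dual Ah C ≃ₗ[A] Disc.Omega Ah C :=
      { toFun := fun φ => ⟨φ⟩
        invFun := Disc.Omega.toLinearMap
        left_inv := fun _ => rfl
        right_inv := fun _ => rfl
        map_add' := fun _ _ => rfl
        map_smul' := fun a φ => by
          refine Disc.Omega.ext (LinearMap.ext fun c => ?_)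
          show (a • φ) c = φ (algebraMap A C a * c)
          rw [IsScalarTower.algebraMap_apply A Ah C, ← Algebra.smul_def, map_smul, LinearMap.smul_apply,
            algebraMap_smul] }
    have : Module.Flat A (Module.Dual Ah C) := Module.Flat.trans A Ah _
    exact Module.Flat.of_linearEquiv ((E.restrictScalars A).trans D.symm)
  have hinj : Function.Injective (f.lTensor (C ⊗[B] N)) := Module.Flat.lTensor_preserves_injective_linearMap f hf
  let a (W : Type u) [AddCommGroup W] [Module A W] :=
    TensorProduct.AlgebraTensorModule.assoc A B B C N W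
  have hnat : ∀ t : (C ⊗[B] N) ⊗[A] X,
      a Y (f.lTensor (C ⊗[B] N) t) =
        (TensorProduct.AlgebraTensorModule.lTensor B N f).lTensor C (a X t) := by
    intro t
    induction t using TensorProduct.induction_on with
    | zero => simp
    | add x y hx hy => simp only [map_add, hx, hy]
    | tmul u x =>
      induction u using TensorProduct.induction_on with
      | zero => simp
      | add p q hp hq => simp only [TensorProduct.add_tmul, map_add, hp, hq]
      | tmul c n => rfl
  refine (a X).symm.injective (hinj ((a Y).injective ?_))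
  rw [hnat, hnat, LinearEquiv.apply_symm_apply, LinearEquiv.apply_symm_apply, LinearMap.lTensor_tmul, map_zero]
  rw [show (TensorProduct.AlgebraTensorModule.lTensor B N f) z = 0 from hz, TensorProduct.tmul_zero]


/-- An element of a `B₁`-module dying in `B₁ ⊗ C` dies in `C`. -/
theorem tmul_eq_zero_of_chart {B B₁ C X : Type u} [CommRing B] [CommRing B₁] [CommRing C] [Algebra B B₁]
    [Algebra B C] [AddCommGroup X] [Module B₁ X] [Module B X] [IsScalarTower B B₁ X] {z : X}
    (h : (1 : B₁ ⊗[B] C) ⊗ₜ[B₁] z = 0) : (1 : C) ⊗ₜ[B] z = 0 := by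
  have h1 := congrArg (fun t => TensorProduct.comm B X C
    (TensorProduct.AlgebraTensorModule.cancelBaseChange B B₁ B₁ X C (TensorProduct.comm B₁ (B₁ ⊗[B] C) X t))) h
  simp only [TensorProduct.comm_tmul, map_zero] at h1
  rw [Algebra.TensorProduct.one_def, TensorProduct.AlgebraTensorModule.cancelBaseChange_tmul, one_smul,
    TensorProduct.comm_tmul] at h1
  exact h1

/-- Base change of `ω` is bijective after passing to a component. -/
theorem omegaBC_bijective_component {A B' B A₁ B'₁ B₁ Ah C : Type u} [CommRing A] [CommRing B'] [CommRing B]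
    [CommRing A₁] [CommRing B'₁] [CommRing B₁] [CommRing Ah] [CommRing C] [Algebra A B'] [Algebra B' B]
    [Algebra A B] [IsScalarTower A B' B] [Module.FinitePresentation A B']
    [Algebra A A₁] [Algebra B' B'₁] [Algebra A₁ B'₁] [Algebra A B'₁] [IsScalarTower A A₁ B'₁]
    [IsScalarTower A B' B'₁] [Module.FinitePresentation A₁ B'₁] (h : Algebra.IsPushout A A₁ B' B'₁) [Algebra B B₁]
    [Algebra A₁ B₁] [Algebra A B₁]
    [IsScalarTower A A₁ B₁] [IsScalarTower A B B₁] (hB : Algebra.IsPushout A A₁ B B₁) [Algebra B'₁ B₁]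
    [Algebra B' B₁] [IsScalarTower B' B'₁ B₁] [IsScalarTower B' B B₁] [IsScalarTower A₁ B'₁ B₁]
    [Algebra A Ah] [Module.Flat A Ah] [Algebra B C] [Algebra Ah C] [Algebra A C] [IsScalarTower A Ah C]
    [IsScalarTower A B C] [Module.Finite Ah C] [Module.Free Ah C] (π' : Ah ⊗[A] B' →ₐ[Ah] C)
    (hπs : Function.Surjective π') (hπB : ∀ b', π' ((1 : Ah) ⊗ₜ[A] b') = algebraMap B C (algebraMap B' B b'))
    {e' : Ah ⊗[A] B'} (hkil : ∀ z, π' z = 0 → e' * z = 0) (hπe' : π' e' = 1) :
    Function.Bijective (QFDual.omegaBC (B₁ := B₁ ⊗[B] C) h) := by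
  letI : Algebra B' C := ((algebraMap B C).comp (algebraMap B' B)).toAlgebra
  have : IsScalarTower B' B C := IsScalarTower.of_algebraMap_eq fun _ => rfl
  have : IsScalarTower A B' C := IsScalarTower.of_algebraMap_eq (R := A) (S := B') (A := C) fun a => by
    rw [IsScalarTower.algebraMap_apply A B C, IsScalarTower.algebraMap_apply B' B C,
      IsScalarTower.algebraMap_apply A B' B]
  obtain ⟨E, hE⟩ := exists_equiv_omega (A := A) (B' := B')
    (TensorProduct.isPushout : Algebra.IsPushout A Ah B' (Ah ⊗[A] B')) π' hπs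
    (fun b' => (hπB b').symm) hkil hπe'
  let Ah₁ := A₁ ⊗[A] Ah
  let C₁ := B₁ ⊗[B] C
  have : Module.Flat A₁ Ah₁ := inferInstance
  letI : Algebra Ah C₁ := ((algebraMap C C₁).comp (algebraMap Ah C)).toAlgebra
  have : IsScalarTower Ah C C₁ := IsScalarTower.of_algebraMap_eq fun _ => rfl
  have : IsScalarTower A C C₁ := IsScalarTower.of_algebraMap_eq fun a => by
    rw [IsScalarTower.algebraMap_apply A B C₁, IsScalarTower.algebraMap_apply A B C,
      ← IsScalarTower.algebraMap_apply B C C₁]
  have : IsScalarTower A Ah C₁ := IsScalarTower.of_algebraMap_eq fun a => by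
    rw [IsScalarTower.algebraMap_apply A C C₁, IsScalarTower.algebraMap_apply A Ah C]
    rfl
  let ι : Ah₁ →ₐ[A₁] C₁ := Algebra.TensorProduct.lift (Algebra.ofId A₁ C₁) (IsScalarTower.toAlgHom A Ah C₁)
    (fun x y => @Commute.all C₁ _ _ _)
  letI : Algebra Ah₁ C₁ := ι.toRingHom.toAlgebra
  have : IsScalarTower A₁ Ah₁ C₁ := IsScalarTower.of_algebraMap_eq fun a => (ι.commutes a).symm
  have : IsScalarTower Ah Ah₁ C₁ := IsScalarTower.of_algebraMap_eq fun a => by
    show algebraMap Ah C₁ a = ι ((1 : A₁) ⊗ₜ[A] a)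
    rw [Algebra.TensorProduct.lift_tmul, map_one, one_mul]
    rfl
  have : IsScalarTower A Ah₁ C₁ := IsScalarTower.of_algebraMap_eq fun a => by
    rw [IsScalarTower.algebraMap_apply A A₁ Ah₁, ← IsScalarTower.algebraMap_apply A₁ Ah₁ C₁,
      ← IsScalarTower.algebraMap_apply A A₁ C₁]
  have hPC : Algebra.IsPushout Ah Ah₁ C C₁ := by
    have hBC : Algebra.IsPushout B B₁ C C₁ := TensorProduct.isPushout
    have hAC : Algebra.IsPushout A A₁ C C₁ :=
      (have := hB.symm; (Algebra.IsPushout.comp_iff (R := A) (S := B) (R' := A₁) (S' := B₁) (T := C) (T' := C₁)).2 hBC.symm).symm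
    have hAh : Algebra.IsPushout A Ah A₁ Ah₁ :=
      (TensorProduct.isPushout : Algebra.IsPushout A A₁ Ah Ah₁).symm
    exact ((Algebra.IsPushout.comp_iff (R := A) (S := Ah) (R' := A₁) (S' := Ah₁) (T := C) (T' := C₁)).1 hAC.symm).symm
  have : IsScalarTower B' C C₁ := IsScalarTower.of_algebraMap_eq fun b => by
    rw [IsScalarTower.algebraMap_apply B' B C₁, IsScalarTower.algebraMap_apply B' B C,
      ← IsScalarTower.algebraMap_apply B C C₁]
  let B'h₁ := Ah₁ ⊗[A₁] B'₁
  let π₁ : B'h₁ →ₐ[Ah₁] C₁ := Algebra.TensorProduct.lift (Algebra.ofId Ah₁ C₁) (IsScalarTower.toAlgHom A₁ B'₁ C₁)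
    (fun x y => @Commute.all C₁ _ _ _)
  let φ : Ah ⊗[A] B' →ₐ[A] B'h₁ := Algebra.TensorProduct.lift
    ((Algebra.TensorProduct.includeLeft : Ah₁ →ₐ[A] B'h₁).comp Algebra.TensorProduct.includeRight)
    (((Algebra.TensorProduct.includeRight : B'₁ →ₐ[A₁] B'h₁).restrictScalars A).comp (IsScalarTower.toAlgHom A B' B'₁))
    (fun x y => @Commute.all B'h₁ _ _ _)
  have hφ : ∀ a b', φ (a ⊗ₜ[A] b') = ((1 : A₁) ⊗ₜ[A] a) ⊗ₜ[A₁] algebraMap B' B'₁ b' := fun a b' => by
    show φ _ = _
    rw [Algebra.TensorProduct.lift_tmul]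
    show (((1 : A₁) ⊗ₜ[A] a) ⊗ₜ[A₁] (1 : B'₁)) * ((1 : Ah₁) ⊗ₜ[A₁] algebraMap B' B'₁ b') = _
    rw [Algebra.TensorProduct.tmul_mul_tmul, mul_one, one_mul]
  have hπ₁ : ∀ z, π₁ (φ z) = algebraMap C C₁ (π' z) := by
    intro z
    induction z using TensorProduct.induction_on with
    | zero => simp
    | add x y hx hy => simp only [map_add, hx, hy]
    | tmul a b' =>
      rw [hφ, Algebra.TensorProduct.lift_tmul, show a ⊗ₜ[A] b' = a • ((1 : Ah) ⊗ₜ[A] b') by
        rw [TensorProduct.smul_tmul', smul_eq_mul, mul_one], map_smul, hπB, Algebra.smul_def, map_mul]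
      congr 1
      · show ι _ = _
        rw [Algebra.TensorProduct.lift_tmul, map_one, one_mul]
        rfl
      · show algebraMap B'₁ C₁ (algebraMap B' B'₁ b') = _
        rw [← IsScalarTower.algebraMap_apply B' B'₁ C₁, ← IsScalarTower.algebraMap_apply B C C₁,
          ← IsScalarTower.algebraMap_apply B' B C₁]
  have hπ₁s : Function.Surjective π₁ := by
    have hr : ∀ c, algebraMap C C₁ c ∈ π₁.range := fun c => by
      obtain ⟨z, rfl⟩ := hπs c
      exact ⟨φ z, hπ₁ z⟩
    intro x
    show x ∈ π₁.range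
    induction x using TensorProduct.induction_on with
    | zero => exact zero_mem _
    | add u v hu hv => exact add_mem hu hv
    | tmul b₁ c =>
      rw [show b₁ ⊗ₜ[B] c = (b₁ ⊗ₜ[B] (1 : C)) * ((1 : B₁) ⊗ₜ[B] c) by simp]
      refine mul_mem ?_ (hr c)
      induction b₁ using QFDualLib.mul_induction hB with
      | h0 => rw [TensorProduct.zero_tmul]; exact zero_mem _
      | hadd u v hu hv => rw [TensorProduct.add_tmul]; exact add_mem hu hv
      | h a b =>
        rw [show (algebraMap A₁ B₁ a * algebraMap B B₁ b) ⊗ₜ[B] (1 : C) =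
          algebraMap A₁ C₁ a * algebraMap C C₁ (algebraMap B C b) by
            rw [← IsScalarTower.algebraMap_apply B C C₁, IsScalarTower.algebraMap_apply B B₁ C₁,
              IsScalarTower.algebraMap_apply A₁ B₁ C₁, ← map_mul]
            rfl]
        refine mul_mem ?_ (hr _)
        rw [IsScalarTower.algebraMap_apply A₁ Ah₁ C₁]
        exact π₁.range.algebraMap_mem _
  let s : C →ₗ[Ah] B'h₁ :=
    { toFun := fun c => φ (e' * Function.surjInv hπs c)
      map_add' := fun x y => by
        rw [← map_add, ← mul_add, ← sub_eq_zero, ← map_sub, ← mul_sub,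
          hkil _ (by simp only [map_sub, map_add, Function.surjInv_eq hπs, sub_self]), map_zero]
      map_smul' := fun a x => by
        have h1 : e' * Function.surjInv hπs (a • x) = algebraMap Ah (Ah ⊗[A] B') a * (e' * Function.surjInv hπs x) := by
          rw [mul_left_comm, ← Algebra.smul_def, ← sub_eq_zero, ← mul_sub]
          exact hkil _ (by simp only [map_sub, map_smul, Function.surjInv_eq hπs, sub_self])
        rw [RingHom.id_apply, h1, ← IsScalarTower.algebraMap_smul Ah₁ a]
        induction e' * Function.surjInv hπs x using TensorProduct.induction_on with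
        | zero => rw [mul_zero, map_zero, smul_zero]
        | add u v hu hv => rw [mul_add, map_add, map_add, hu, hv, smul_add]
        | tmul c b' =>
          rw [← Algebra.smul_def, TensorProduct.smul_tmul', smul_eq_mul, hφ, hφ, TensorProduct.smul_tmul']
          congr 1
          show _ = ((1 : A₁) ⊗ₜ[A] a) * ((1 : A₁) ⊗ₜ[A] c)
          rw [Algebra.TensorProduct.tmul_mul_tmul, one_mul] }
  have hs : ∀ z, s (π' z) = φ e' * φ z := fun z => by
    show φ (e' * Function.surjInv hπs (π' z)) = _
    rw [← map_mul, ← sub_eq_zero, ← map_sub, ← mul_sub,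
      hkil _ (by rw [map_sub, Function.surjInv_eq hπs, sub_self]), map_zero]
  let s₁ : C₁ →ₗ[Ah₁] B'h₁ := hPC.out.lift s
  have hs₁ : ∀ x, s₁ (π₁ x) = φ e' * x := by
    intro x
    induction x using TensorProduct.induction_on with
    | zero => simp
    | add u v hu hv => simp only [map_add, mul_add, hu, hv]
    | tmul α b'₁ =>
      induction b'₁ using QFDualLib.mul_induction h generalizing α with
      | h0 => rw [TensorProduct.tmul_zero, map_zero, map_zero, mul_zero]
      | hadd u v hu hv => rw [TensorProduct.tmul_add, map_add, map_add, mul_add, hu, hv]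
      | h a b' =>
        have h1 : α ⊗ₜ[A₁] (algebraMap A₁ B'₁ a * algebraMap B' B'₁ b') =
            (a • α) • φ ((1 : Ah) ⊗ₜ[A] b') := by
          rw [hφ, ← Algebra.smul_def, ← TensorProduct.smul_tmul, TensorProduct.smul_tmul', smul_eq_mul,
            ← Algebra.TensorProduct.one_def, mul_one]
        rw [h1, map_smul, hπ₁, map_smul, mul_smul_comm]
        congr 1
        exact (hPC.out.lift_eq s _).trans (hs _)
  have hπ₁e : π₁ (φ e') = 1 := by rw [hπ₁, hπe', map_one]
  have hkil₁ : ∀ x, π₁ x = 0 → φ e' * x = 0 := fun x hx => by rw [← hs₁, hx, map_zero]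
  obtain ⟨E₁, hE₁⟩ := exists_equiv_omega (A := A₁) (B' := B'₁) (C := C₁)
    (TensorProduct.isPushout : Algebra.IsPushout A₁ Ah₁ B'₁ B'h₁) π₁ hπ₁s
    (fun b => by
      show algebraMap B'₁ C₁ b = π₁ ((1 : Ah₁) ⊗ₜ[A₁] b)
      rw [Algebra.TensorProduct.lift_tmul, map_one, one_mul]
      rfl) hkil₁ hπ₁e
  have hC := omegaBC_bijective_of_dual (B₁ := C₁) hPC (QFDualLib.toDual_lift_bijective_free hPC.out)
  let T := (TensorProduct.AlgebraTensorModule.cancelBaseChange B' C C₁ C₁ (Disc.Omega A B')).symm.trans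
    (TensorProduct.AlgebraTensorModule.congr (LinearEquiv.refl C₁ C₁) E)
  let F := (LinearEquiv.ofBijective _ hC).trans (TensorProduct.lid C₁ (Disc.Omega Ah₁ C₁))
  have key : ∀ z, E₁ (QFDual.omegaBC (B₁ := C₁) h z) = F (T z) := by
    intro z
    induction z using TensorProduct.induction_on with
    | zero => simp
    | add u v hu hv => simp only [map_add, hu, hv]
    | tmul x l =>
      show E₁ (x ⊗ₜ[B'₁] QFDual.bcFin h l) = x • QFDual.bcFin hPC (E ((1 : C) ⊗ₜ[B'] l))
      rw [show x ⊗ₜ[B'₁] QFDual.bcFin h l = x • ((1 : C₁) ⊗ₜ[B'₁] QFDual.bcFin h l) by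
        rw [TensorProduct.smul_tmul', smul_eq_mul, mul_one], map_smul]
      refine congrArg (x • ·) (Disc.Omega.ext (hPC.out.algHom_ext _ _ fun c => ?_))
      obtain ⟨z, rfl⟩ := hπs c
      show (E₁ _).toLinearMap (algebraMap C C₁ (π' z)) = (QFDual.bcFin hPC _).toLinearMap (algebraMap C C₁ (π' z))
      rw [QFDual.bcFin_apply_algebraMap, hE, ← hπ₁, hE₁, ← map_mul]
      induction e' * z using TensorProduct.induction_on with
      | zero => simp
      | add u v hu hv => simp only [map_add, hu, hv]
      | tmul a b' =>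
        rw [show φ (a ⊗ₜ[A] b') = ((1 : A₁) ⊗ₜ[A] a) • algebraMap B'₁ B'h₁ (algebraMap B' B'₁ b') by
          rw [hφ]
          show _ = ((1 : A₁) ⊗ₜ[A] a) • ((1 : Ah₁) ⊗ₜ[A₁] _)
          rw [TensorProduct.smul_tmul', smul_eq_mul, mul_one],
          show a ⊗ₜ[A] b' = a • algebraMap B' (Ah ⊗[A] B') b' by
          show _ = a • ((1 : Ah) ⊗ₜ[A] _)
          rw [TensorProduct.smul_tmul', smul_eq_mul, mul_one], map_smul, map_smul, QFDual.bcFin_apply_algebraMap,
          QFDual.bcFin_apply_algebraMap, QFDual.bcFin_apply_algebraMap, smul_eq_mul, smul_eq_mul, map_mul]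
        congr 1
        rw [← IsScalarTower.algebraMap_apply A A₁ Ah₁, ← IsScalarTower.algebraMap_apply A Ah Ah₁]
  have hfin : (QFDual.omegaBC (B₁ := C₁) h : _ → _) = fun z => E₁.symm (F (T z)) := by
    funext z
    rw [← key, LinearEquiv.symm_apply_apply]
  rw [hfin]
  exact E₁.symm.bijective.comp (F.bijective.comp T.bijective)

/-- Formation of `ω` of a flat quasi-finite algebra commutes with base change. -/
theorem omegaBC_bijective_of_flat (A B' B A₁ B'₁ B₁ : Type u) [CommRing A] [CommRing B'] [CommRing B] [CommRing A₁]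
    [CommRing B'₁] [CommRing B₁] [IsNoetherianRing A] [IsNoetherianRing A₁] [Algebra A B'] [Algebra B' B]
    [Algebra A B] [IsScalarTower A B' B] [Module.Finite A B'] [Module.Flat A B]
    (hopen : IsOpenImmersion (Spec.map (CommRingCat.ofHom (algebraMap B' B))))
    [Algebra A A₁] [Algebra B' B'₁] [Algebra A₁ B'₁] [Algebra A B'₁] [IsScalarTower A A₁ B'₁]
    [IsScalarTower A B' B'₁] (h : Algebra.IsPushout A A₁ B' B'₁) [Algebra B B₁] [Algebra A₁ B₁] [Algebra A B₁]
    [IsScalarTower A A₁ B₁] [IsScalarTower A B B₁] (hB : Algebra.IsPushout A A₁ B B₁) [Algebra B'₁ B₁]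
    [Algebra B' B₁] [IsScalarTower B' B'₁ B₁] [IsScalarTower B' B B₁] [IsScalarTower A₁ B'₁ B₁] :
    Function.Bijective (QFDual.omegaBC (B₁ := B₁) h) := by
  have := finitePresentation_of_openImmersion A B' B hopen
  have : Module.FinitePresentation A B' := Module.finitePresentation_of_finite A B'
  have : Module.Finite A₁ B'₁ := Module.Finite.equiv h.out.equiv
  have : Module.FinitePresentation A₁ B'₁ := Module.finitePresentation_of_finite A₁ B'₁
  let f := QFDual.omegaBC (B₁ := B₁) h
  have key : ∀ (M : Ideal B) [M.IsMaximal], ∃ (C : Type u) (_ : CommRing C) (_ : Algebra B C), Module.Flat B C ∧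
      (∃ Q : Ideal C, Q.IsPrime ∧ Q.comap (algebraMap B C) = M) ∧
      Function.Bijective (f.baseChange (B₁ ⊗[B] C)) := by
    intro M _
    obtain ⟨Ah, _, _, _, _, _, _, hAh, -, C, _, _, hflat, hQ, _, _, _, _, hfin, hfree, -, -, π', hπs, hπB, e',
      hkil, hπe'⟩ := exists_component A B' B hopen M
    refine ⟨C, inferInstance, inferInstance, hflat, hQ, ?_⟩
    have hbij := omegaBC_bijective_component h hB π' hπs hπB hkil hπe'
    let C₁ := B₁ ⊗[B] C
    let κ := TensorProduct.AlgebraTensorModule.cancelBaseChange B' B₁ C₁ C₁ (Disc.Omega A B')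
    let κ' := TensorProduct.AlgebraTensorModule.cancelBaseChange B'₁ B₁ C₁ C₁ (Disc.Omega A₁ B'₁)
    have : (f.baseChange C₁ : _ → _) = fun t => κ'.symm (QFDual.omegaBC (B₁ := C₁) h (κ t)) := by
      funext t
      rw [LinearEquiv.eq_symm_apply]
      induction t using TensorProduct.induction_on with
      | zero => simp
      | add u v hu hv => simp only [map_add, hu, hv]
      | tmul x w =>
        induction w using TensorProduct.induction_on with
        | zero => simp
        | add u v hu hv => simp only [TensorProduct.tmul_add, map_add, hu, hv]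
        | tmul b l =>
          rw [LinearMap.baseChange_tmul]
          show κ' (x ⊗ₜ[B₁] (b ⊗ₜ[B'₁] QFDual.bcFin h l)) = QFDual.omegaBC (B₁ := C₁) h (κ (x ⊗ₜ[B₁] (b ⊗ₜ[B'] l)))
          rw [TensorProduct.AlgebraTensorModule.cancelBaseChange_tmul,
            TensorProduct.AlgebraTensorModule.cancelBaseChange_tmul, QFDual.omegaBC_tmul]
    rw [this]
    exact κ'.symm.bijective.comp (hbij.comp κ.bijective)
  refine ⟨(injective_iff_map_eq_zero _).2 fun z hz => eq_zero_of_charts (B := B) z fun M _ => ?_, ?_⟩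
  · obtain ⟨C, _, _, hflat, hQ, hbij⟩ := key M
    refine ⟨C, inferInstance, inferInstance, hflat, hQ, tmul_eq_zero_of_chart (hbij.1 ?_)⟩
    rw [LinearMap.baseChange_tmul, show f z = 0 from hz, TensorProduct.tmul_zero, map_zero]
  · rw [← LinearMap.range_eq_top]
    refine Submodule.eq_top_iff'.2 fun y => (Submodule.Quotient.mk_eq_zero _).1
      (eq_zero_of_charts (B := B) (Submodule.Quotient.mk y : _ ⧸ LinearMap.range f) fun M _ => ?_)
    obtain ⟨C, _, _, hflat, hQ, hbij⟩ := key M
    refine ⟨C, inferInstance, inferInstance, hflat, hQ, tmul_eq_zero_of_chart (B₁ := B₁) ?_⟩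
    obtain ⟨t, ht⟩ := hbij.2 ((1 : B₁ ⊗[B] C) ⊗ₜ[B₁] y)
    have h0 : ∀ t, (LinearMap.range f).mkQ.lTensor (B₁ ⊗[B] C) (f.baseChange (B₁ ⊗[B] C) t) = 0 := by
      intro t
      induction t using TensorProduct.induction_on with
      | zero => simp
      | add u v hu hv => simp only [map_add, hu, hv, add_zero]
      | tmul x w =>
        rw [LinearMap.baseChange_tmul, LinearMap.lTensor_tmul, Submodule.mkQ_apply,
          (Submodule.Quotient.mk_eq_zero _).2 (LinearMap.mem_range_self f w), TensorProduct.tmul_zero]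
    have := h0 t
    rwa [ht, LinearMap.lTensor_tmul, Submodule.mkQ_apply] at this

end TateLib
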