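import Groth.Agent.TateLib.Fitting
import Groth.Agent.TateLib.Fibre
import Groth.Agent.QFDualLib.BaseChange
import Mathlib.RingTheory.Kaehler.TensorProduct
import Mathlib.RingTheory.Localization.Integer

/-!
# The different of a finite free syntomic algebra is the Kähler different
-/

set_option autoImplicit false

universe u v

open TensorProduct

namespace TateLib

section Fitt

variable {R R' : Type u} [CommRing R] [CommRing R'] [Algebra R R'] (T : Submonoid R) [IsLocalization T R']
  {M : Type v} [AddCommGroup M] [Module R M] {M' : Type v} [AddCommGroup M'] [Module R' M'] [Module R M']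
  [IsScalarTower R R' M'] (g : M →ₗ[R] M')

/-- The zeroth Fitting ideal commutes with localization. -/
theorem fitt_zero_localized [Module.Finite R M] (hsurj : ∀ z : M', ∃ t ∈ T, ∃ x : M, t • z = g x)
    (hzero : ∀ x : M, g x = 0 → ∃ t ∈ T, t • x = 0) :
    Fitt.ideal R' M' 0 = (Fitt.ideal R M 0).map (algebraMap R R') := by
  classical
  have hspan : ∀ {l : ℕ} (x : Fin l → M), Submodule.span R (Set.range x) = ⊤ →
      Submodule.span R' (Set.range fun i => g (x i)) = ⊤ := by
    intro l x hx
    refine eq_top_iff.2 fun z _ => ?_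
    obtain ⟨t, ht, y, hy⟩ := hsurj z
    obtain ⟨c, rfl⟩ := (Submodule.mem_span_range_iff_exists_fun R).1 (hx.ge (Submodule.mem_top : y ∈ ⊤))
    have h1 : algebraMap R R' t • z ∈ Submodule.span R' (Set.range fun i => g (x i)) := by
      rw [algebraMap_smul, hy, map_sum]
      refine Submodule.sum_mem _ fun i _ => ?_
      rw [map_smul, ← algebraMap_smul R' (c i)]
      exact Submodule.smul_mem _ _ (Submodule.subset_span ⟨i, rfl⟩)
    obtain ⟨u, hu⟩ := IsLocalization.map_units R' (⟨t, ht⟩ : T)
    have h2 := Submodule.smul_mem _ (↑u⁻¹ : R') h1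
    rwa [smul_smul, show algebraMap R R' t = u from hu.symm, u.inv_mul, one_smul] at h2
  refine le_antisymm (Ideal.span_le.2 ?_) (Ideal.map_le_iff_le_comap.2 (Ideal.span_le.2 ?_))
  · rintro _ ⟨m, x', a, hx', ha, rfl⟩
    obtain ⟨l, e, he⟩ := Module.Finite.exists_fin (R := R) (M := M)
    let x : Fin l → M' := fun i => g (e i)
    have hx := hspan e he
    choose C hC using fun i => (Submodule.mem_span_range_iff_exists_fun R').1 (hx'.ge (Submodule.mem_top : x i ∈ ⊤))
    choose E hE using fun j => (Submodule.mem_span_range_iff_exists_fun R').1 (hx.ge (Submodule.mem_top : x' j ∈ ⊤))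
    let U : Matrix (Fin l ⊕ Fin m) (Fin l ⊕ Fin m) R' := Matrix.fromBlocks 1 0 (Matrix.of E) 1
    let N : Matrix (Fin l ⊕ Fin m) (Fin l ⊕ Fin m) R' := Matrix.fromBlocks 1 (-Matrix.of C) 0 a
    let σ : Fin (l + m) ≃ Fin l ⊕ Fin m := finSumFinEquiv.symm
    let z : Fin l ⊕ Fin m → M := Sum.elim e fun _ => 0
    have hdet : (N * U).det = a.det := by
      simp [U, N, Matrix.det_mul, Matrix.det_fromBlocks_zero₁₂, Matrix.det_fromBlocks_zero₂₁]
    have hrel : ∀ v, ∑ w, (N * U) v w • g (z w) = 0 := by
      intro v
      have hU : ∀ w, ∑ w', U w w' • g (z w') = Sum.elim x x' w := by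
        rintro (i | j)
        · simp [U, z, Fintype.sum_sum_type, Matrix.one_apply, x]
        · simp [U, z, Fintype.sum_sum_type, x]
          exact hE j
      simp only [Matrix.mul_apply, Finset.sum_smul, mul_smul]
      rw [Finset.sum_comm]
      simp only [← Finset.smul_sum, hU, Fintype.sum_sum_type, Sum.elim_inl, Sum.elim_inr]
      rcases v with i | j
      · simp [N, Matrix.one_apply, hC]
      · simp [N]
        exact ha j (by simp)
    -- clear denominators
    obtain ⟨s, hs⟩ := IsLocalization.exist_integer_multiples_of_finite T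
      (fun p : (Fin l ⊕ Fin m) × (Fin l ⊕ Fin m) => (N * U) p.1 p.2)
    choose b hb using fun p => hs p
    have hzero' : ∀ v, ∃ t ∈ T, t • ∑ w, b (v, w) • z w = 0 := fun v => by
      refine hzero _ ?_
      rw [map_sum]
      simp only [map_smul]
      have : ∀ w, b (v, w) • g (z w) = (s : R) • ((N * U) v w • g (z w)) := fun w => by
        rw [← algebraMap_smul R' (b (v, w)), hb, smul_assoc]
      simp only [this, ← Finset.smul_sum, hrel v, smul_zero]
    choose t ht htz using hzero'
    let D : Matrix (Fin l ⊕ Fin m) (Fin l ⊕ Fin m) R := Matrix.of fun v w => t v * b (v, w)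
    have hmem : D.det ∈ Fitt.ideal R M 0 := by
      refine Ideal.subset_span ⟨l + m, z ∘ σ, D.submatrix σ σ, ?_, fun i _ => ?_, (Matrix.det_submatrix_equiv_self σ D).symm⟩
      · rw [Set.range_comp, σ.surjective.range_eq, Set.image_univ, eq_top_iff, ← he]
        refine Submodule.span_mono ?_
        rintro _ ⟨i, rfl⟩
        exact ⟨Sum.inl i, rfl⟩
      · rw [← Fintype.sum_equiv σ.symm (fun w => D (σ i) w • z w) (fun j => D.submatrix σ σ i j • (z ∘ σ) j) (fun w => by simp)]
        simp only [D, Matrix.of_apply, mul_smul, ← Finset.smul_sum]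
        exact htz _
    have h1 : algebraMap R R' D.det = (∏ v, algebraMap R R' (t v) * algebraMap R R' (s : R)) * a.det := by
      rw [RingHom.map_det, ← hdet, ← Matrix.det_mul_column]
      congr 1
      ext v w
      simp only [RingHom.mapMatrix_apply, Matrix.map_apply, D, Matrix.of_apply, map_mul, hb, mul_assoc]
      rw [Algebra.smul_def]
    have hu : IsUnit (∏ v, algebraMap R R' (t v) * algebraMap R R' (s : R)) := by
      refine IsUnit.prod_iff.2 fun v _ => ?_
      exact (IsLocalization.map_units R' (⟨t v, ht v⟩ : T)).mul (IsLocalization.map_units R' s)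
    have h2 := Ideal.mem_map_of_mem (algebraMap R R') hmem
    rw [h1] at h2
    exact (Ideal.unit_mul_mem_iff_mem _ hu).1 h2
  · rintro _ ⟨m, x, a, hx, ha, rfl⟩
    refine Ideal.subset_span ⟨m, fun i => g (x i), a.map (algebraMap R R'), hspan x hx, fun i hi => ?_,
      RingHom.map_det _ _⟩
    simp only [Matrix.map_apply, algebraMap_smul, ← map_smul, ← map_sum, ha i hi, map_zero]

end Fitt

attribute [local instance] Algebra.TensorProduct.rightAlgebra

/-- The different of a finite free syntomic algebra is its Kähler different. -/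
theorem differentSet_eq_fitt (A B : Type u) [CommRing A] [CommRing B] [Algebra A B] [Module.Finite A B]
    [Module.Free A B] (h : Synt.IsSyntomic A B) :
    Disc.differentSet A B = (Fitt.ideal B (Ω[B⁄A]) 0 : Set B) := by
  classical
  have : Algebra.FinitePresentation A B := h.2.1
  rw [← QFDualLib.different_eq_differentSet, SetLike.coe_set_eq]
  let D : Ideal B := QFDual.different B (Disc.Omega.trace A B)
  let F : Ideal B := Fitt.ideal B (Ω[B⁄A]) 0
  suffices key : ∀ (m : Ideal A) [m.IsMaximal],
      D.map (algebraMap B (Localization.AtPrime m ⊗[A] B)) = F.map (algebraMap B (Localization.AtPrime m ⊗[A] B)) by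
    have le : ∀ D F : Ideal B, (∀ (m : Ideal A) [m.IsMaximal],
        D.map (algebraMap B (Localization.AtPrime m ⊗[A] B)) ≤ F.map (algebraMap B (Localization.AtPrime m ⊗[A] B))) →
        D ≤ F := by
      intro D F hle x hx
      let I : Ideal A := (F.restrictScalars A).comap (LinearMap.toSpanSingleton A B x)
      suffices hI : I = ⊤ by simpa [I] using (Ideal.eq_top_iff_one I).1 hI
      by_contra hne
      obtain ⟨m, hm, hIm⟩ := Ideal.exists_le_maximal I hne
      have : IsLocalization (Algebra.algebraMapSubmonoid B m.primeCompl) (Localization.AtPrime m ⊗[A] B) :=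
        inferInstance
      obtain ⟨⟨y, ⟨_, t, ht, rfl⟩⟩, hy⟩ := (IsLocalization.mem_map_algebraMap_iff
        (Algebra.algebraMapSubmonoid B m.primeCompl) _).1 (hle m (Ideal.mem_map_of_mem _ hx))
      rw [← map_mul, IsLocalization.eq_iff_exists (Algebra.algebraMapSubmonoid B m.primeCompl)] at hy
      obtain ⟨⟨_, t', ht', rfl⟩, hy⟩ := hy
      refine m.primeCompl.mul_mem ht' ht (hIm ?_)
      show (t' * t) • x ∈ F
      rw [Algebra.smul_def, map_mul]
      have := Ideal.mul_mem_left F (algebraMap A B t') y.2
      rw [show algebraMap A B t' * y = algebraMap A B t' * (x * algebraMap A B t) from hy.symm] at this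
      rwa [mul_assoc, mul_comm (algebraMap A B t) x]
    exact le_antisymm (le D F fun m _ => (key m).le) (le F D fun m _ => (key m).ge)
  intro m _
  let A' := Localization.AtPrime m
  let B' := A' ⊗[A] B
  have hT : IsLocalization (Algebra.algebraMapSubmonoid B m.primeCompl) B' :=
    inferInstance
  have hP : Algebra.IsPushout A A' B B' := TensorProduct.isPushout
  have hD : D.map (algebraMap B B') = QFDual.different B' (Disc.Omega.trace A' B') :=
    QFDualLib.map_different_eq_of_flat hP
  have hF : Fitt.ideal B' (Ω[B'⁄A']) 0 = F.map (algebraMap B B') := by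
    refine fitt_zero_localized (Algebra.algebraMapSubmonoid B m.primeCompl)
      (KaehlerDifferential.map A A' B B') (fun z => ?_) (fun x hx => ?_)
    · obtain ⟨⟨x, t⟩, hxt⟩ := IsLocalizedModule.surj m.primeCompl
        ((KaehlerDifferential.map A A' B B').restrictScalars A) z
      exact ⟨algebraMap A B t, ⟨t, t.2, rfl⟩, x, (algebraMap_smul B (t : A) z).trans hxt⟩
    · obtain ⟨t, ht⟩ := (IsLocalizedModule.eq_zero_iff m.primeCompl
        ((KaehlerDifferential.map A A' B B').restrictScalars A)).1 hx
      exact ⟨algebraMap A B t, ⟨t, t.2, rfl⟩, (algebraMap_smul B (t : A) x).trans ht⟩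
  rw [hD, ← hF]
  -- a square presentation of the localized algebra
  let k := m.ResidueField
  let p : PrimeSpectrum A := ⟨m, Ideal.IsMaximal.isPrime ‹_›⟩
  have hk : IsSq k (k ⊗[A] B) := isSq_of_isLCIOver k _ (h.2.2 p)
  have hsq : IsSq A' B' := isSq_of_fibre k IsLocalRing.residue_surjective
    (hk.of_algEquiv (Algebra.TensorProduct.cancelBaseChange A A' k k B).symm)
  obtain ⟨n, φ, f, hφ, hker⟩ := hsq.exists_fin
  rw [fitt_kaehler_eq hφ hker]
  apply SetLike.coe_injective
  rw [QFDualLib.different_eq_differentSet, differentSet_eq hφ hker]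

end TateLib
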