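import Groth.Agent.InvCritLib.Basic
import Mathlib.RingTheory.Flat.FaithfullyFlat.Algebra
import Mathlib.RingTheory.Flat.Localization
import Mathlib.RingTheory.Localization.BaseChange
import Mathlib.RingTheory.Spectrum.Prime.FreeLocus

/-!
# Invertibility from flat charts
-/

set_option autoImplicit false

universe u

open TensorProduct

namespace TateLib

/-- A module over a local ring which becomes free of rank one after a flat local extension is free of rank one. -/
theorem free_one_of_flat_local {R C : Type u} [CommRing R] [CommRing C] [IsLocalRing R] [IsLocalRing C]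
    [Algebra R C] [Module.Flat R C] [IsLocalHom (algebraMap R C)] {N : Type u} [AddCommGroup N] [Module R N]
    (e : C ⊗[R] N ≃ₗ[C] C) : Nonempty (R ≃ₗ[R] N) := by
  classical
  have := Module.FaithfullyFlat.of_flat_of_isLocalHom (A := R) (B := C)
  have hex : ∃ x : N, IsUnit (e ((1 : C) ⊗ₜ[R] x)) := by
    by_contra hno
    push Not at hno
    have : ∀ t : C ⊗[R] N, e t ∈ IsLocalRing.maximalIdeal C := by
      intro t
      induction t using TensorProduct.induction_on with
      | zero => rw [map_zero]; exact zero_mem _
      | add a b ha hb => rw [map_add]; exact add_mem ha hb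
      | tmul c x =>
        rw [show c ⊗ₜ[R] x = c • ((1 : C) ⊗ₜ[R] x) by rw [smul_tmul', smul_eq_mul, mul_one], map_smul, smul_eq_mul]
        exact Ideal.mul_mem_left _ _ ((IsLocalRing.mem_maximalIdeal _).2 (hno x))
    exact (IsLocalRing.mem_maximalIdeal _).1 (this (e.symm 1)) (by rw [e.apply_symm_apply]; exact isUnit_one)
  obtain ⟨x, hx⟩ := hex
  let g : R →ₗ[R] N := LinearMap.toSpanSingleton R N x
  refine ⟨LinearEquiv.ofBijective g ⟨?_, ?_⟩⟩
  · refine (injective_iff_map_eq_zero g).2 fun r hr => ?_
    have h1 : e (algebraMap R C r • ((1 : C) ⊗ₜ[R] x)) = 0 := by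
      rw [algebraMap_smul, ← tmul_smul, show r • x = 0 from hr, tmul_zero, map_zero]
    rw [map_smul, smul_eq_mul, hx.mul_left_eq_zero] at h1
    exact FaithfulSMul.algebraMap_injective R C (h1.trans (map_zero _).symm)
  · refine (Module.FaithfullyFlat.lTensor_surjective_iff_surjective R C g).1 fun t => ?_
    obtain ⟨u, hu⟩ := hx
    refine ⟨(e t * (↑u⁻¹ : C)) ⊗ₜ[R] 1, e.injective ?_⟩
    rw [LinearMap.lTensor_tmul, show g 1 = x from one_smul R x,
      show (e t * (↑u⁻¹ : C)) ⊗ₜ[R] x = (e t * (↑u⁻¹ : C)) • ((1 : C) ⊗ₜ[R] x) by rw [smul_tmul', smul_eq_mul, mul_one],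
      map_smul, smul_eq_mul, ← hu, mul_assoc, Units.inv_mul, mul_one]

/-- Invertibility from flat charts. -/
theorem invertible_of_charts {B : Type u} [CommRing B] [IsNoetherianRing B] {N : Type u} [AddCommGroup N] [Module B N]
    [Module.Finite B N]
    (h : ∀ (M : Ideal B) [M.IsMaximal], ∃ (C : Type u) (_ : CommRing C) (_ : Algebra B C), Module.Flat B C ∧
      (∃ Q : Ideal C, Q.IsPrime ∧ Q.comap (algebraMap B C) = M) ∧ Nonempty (C ⊗[B] N ≃ₗ[C] C)) :
    Module.Invertible B N := by
  classical
  have key : ∀ (M : Ideal B) [M.IsMaximal],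
      Nonempty (Localization.AtPrime M ≃ₗ[Localization.AtPrime M] Localization.AtPrime M ⊗[B] N) := by
    intro M _
    obtain ⟨C, _, _, hflat, ⟨Q, hQ, hQM⟩, ⟨e⟩⟩ := h M
    let R := Localization.AtPrime M
    let C' := Localization.AtPrime Q
    let ι : R →+* C' := Localization.localRingHom M Q (algebraMap B C) hQM.symm
    letI : Algebra R C' := ι.toAlgebra
    have : IsScalarTower B R C' := IsScalarTower.of_algebraMap_eq fun b => by
      show algebraMap B C' b = ι (algebraMap B R b)
      rw [Localization.localRingHom_to_map, ← IsScalarTower.algebraMap_apply]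
    have : IsLocalHom (algebraMap R C') := Localization.isLocalHom_localRingHom M Q _ hQM.symm
    have : Module.Flat B C' := Module.Flat.trans B C C'
    have : Module.Flat R C' := (Module.flat_iff_of_isLocalization R M.primeCompl C').2 inferInstance
    let E : C' ⊗[R] (R ⊗[B] N) ≃ₗ[C'] C' :=
      (TensorProduct.AlgebraTensorModule.cancelBaseChange B R C' C' N).trans
        ((TensorProduct.AlgebraTensorModule.cancelBaseChange B C C' C' N).symm.trans
          ((TensorProduct.AlgebraTensorModule.congr (LinearEquiv.refl C' C') e).trans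
            (TensorProduct.AlgebraTensorModule.rid C C' C')))
    exact free_one_of_flat_local E
  have : Module.Flat B N := by
    refine Module.flat_of_localized_maximal (R := B) N fun M hM => ?_
    obtain ⟨e⟩ := key M
    let L := LocalizedModule.equivTensorProduct M.primeCompl N
    have : Module.Flat B (Localization.AtPrime M) := IsLocalization.flat _ M.primeCompl
    exact Module.Flat.of_linearEquiv ((L.restrictScalars B).trans (e.symm.restrictScalars B))
  have : Module.FinitePresentation B N := Module.finitePresentation_of_finite B N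
  have : Module.Projective B N := Module.Flat.projective_of_finitePresentation
  refine Groth.Agent.InvCritLib.invertible_of_rankAtStalk_one fun q => ?_
  obtain ⟨M, hM, hqM⟩ := Ideal.exists_le_maximal q.asIdeal q.isPrime.ne_top
  obtain ⟨e⟩ := key M
  obtain ⟨Q, hQ⟩ : q ∈ Set.range (PrimeSpectrum.comap (algebraMap B (Localization.AtPrime M))) := by
    rw [PrimeSpectrum.localization_comap_range _ M.primeCompl]
    exact Set.disjoint_left.2 fun b hb hbq => hb (hqM hbq)
  rw [← hQ, ← Module.rankAtStalk_baseChange, Module.rankAtStalk_eq_of_equiv e.symm,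
    Module.rankAtStalk_eq_finrank_of_free]
  simp

end TateLib
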