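import Groth.Agent.TateLib.Delta
import Groth.Agent.TateLib.Fibre
import Groth.Agent.TateLib.Invertible
import Groth.Agent.QFDualLib.Flat
import Groth.Agent.HenselLib.FiniteDecomp
import Groth.Agent.AdicRingLib.Completion
import Groth.Prelude.Def_QFDual
import Mathlib.Algebra.Category.Ring.Epi
import Mathlib.RingTheory.AdicCompletion.AsTensorProduct
import Mathlib.RingTheory.AdicCompletion.LocalRing
import Mathlib.RingTheory.Ideal.IdempotentFG
import Mathlib.RingTheory.Ideal.Pure

/-!
# The dualizing module of a quasi-finite syntomic map is invertible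
-/

set_option autoImplicit false

universe u

open AlgebraicGeometry CategoryTheory TensorProduct IsLocalRing

namespace TateLib

attribute [local instance] Algebra.TensorProduct.rightAlgebra

/-- The comparison of `C ⊗ Hom_A(B', A)` with `Hom_{A₁}(C, A₁)` for a direct factor `C` of `B'₁`. -/
theorem exists_equiv_omega {A Ah B' B'h C : Type u} [CommRing A] [CommRing Ah] [CommRing B'] [CommRing B'h]
    [CommRing C] [Algebra A B'] [Algebra A Ah] [Algebra B' B'h] [Algebra Ah B'h] [Algebra A B'h]
    [IsScalarTower A Ah B'h] [IsScalarTower A B' B'h] [Algebra Ah C] [Algebra A C] [IsScalarTower A Ah C]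
    [Algebra B' C] [IsScalarTower A B' C] [Module.Flat A Ah] [Module.FinitePresentation A B']
    (hP : Algebra.IsPushout A Ah B' B'h) (π' : B'h →ₐ[Ah] C) (hπ's : Function.Surjective π')
    (hcompat : ∀ b', algebraMap B' C b' = π' (algebraMap B' B'h b')) {e' : B'h}
    (hkil : ∀ z, π' z = 0 → e' * z = 0) (hπe' : π' e' = 1) :
    ∃ E : C ⊗[B'] Disc.Omega A B' ≃ₗ[C] Disc.Omega Ah C, ∀ (l : Disc.Omega A B') (z : B'h),
      (E ((1 : C) ⊗ₜ[B'] l)).toLinearMap (π' z) = (QFDual.bcFin hP l).toLinearMap (e' * z) := by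
  let s : C →ₗ[Ah] B'h :=
    { toFun := fun c => e' * Function.surjInv hπ's c
      map_add' := fun x y => by
        rw [← mul_add, ← sub_eq_zero, ← mul_sub]
        exact hkil _ (by simp only [map_sub, map_add, Function.surjInv_eq hπ's, sub_self])
      map_smul' := fun a x => by
        rw [RingHom.id_apply, ← mul_smul_comm, ← sub_eq_zero, ← mul_sub]
        exact hkil _ (by simp only [map_sub, map_smul, Function.surjInv_eq hπ's, sub_self]) }
  have hs' : ∀ z, s (π' z) = e' * z := fun z => by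
    show e' * Function.surjInv hπ's (π' z) = e' * z
    rw [← sub_eq_zero, ← mul_sub]
    exact hkil _ (by rw [map_sub, Function.surjInv_eq hπ's, sub_self])
  have hbij := QFDualLib.toDual_lift_bijective hP.out
  letI : Module B' (Disc.Omega Ah C) := Module.compHom _ (algebraMap B' C)
  have : IsScalarTower B' C (Disc.Omega Ah C) := ⟨fun r c x => by
    rw [Algebra.smul_def, mul_smul]
    rfl⟩
  let Ψ0 : Disc.Omega A B' →ₗ[B'] Disc.Omega Ah C :=
    { toFun := fun l => ⟨(QFDual.bcFin hP l).toLinearMap ∘ₗ s⟩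
      map_add' := fun l m => by rw [map_add]; rfl
      map_smul' := fun b' l => by
        refine Disc.Omega.ext (LinearMap.ext fun c => ?_)
        rw [RingHom.id_apply]
        show _ = (algebraMap B' C b' • Disc.Omega.mk ((QFDual.bcFin hP l).toLinearMap ∘ₗ s)).toLinearMap c
        rw [Disc.Omega.smul_toLinearMap_apply,
          LinearMap.comp_apply, LinearMap.comp_apply, LinearMap.map_smulₛₗ, Disc.Omega.smul_toLinearMap_apply]
        congr 1
        obtain ⟨z, rfl⟩ := hπ's c
        rw [hcompat, ← map_mul, hs', hs', mul_left_comm] }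
  let Ψ : C ⊗[B'] Disc.Omega A B' →ₗ[C] Disc.Omega Ah C := LinearMap.liftBaseChange C Ψ0
  let T0 : Ah ⊗[A] Module.Dual A B' →ₗ[A] C ⊗[B'] Disc.Omega A B' :=
    TensorProduct.lift (LinearMap.mk₂ A (fun a l => (algebraMap Ah C a) ⊗ₜ[B'] (⟨l⟩ : Disc.Omega A B'))
      (fun a a' l => by rw [map_add, add_tmul])
      (fun r a l => by rw [TensorProduct.smul_tmul', Algebra.smul_def r a, map_mul, ← IsScalarTower.algebraMap_apply,
        Algebra.smul_def r (algebraMap Ah C a)])
      (fun a l l' => by rw [← tmul_add]; rfl)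
      (fun r a l => by
        rw [show (⟨r • l⟩ : Disc.Omega A B') = algebraMap A B' r • ⟨l⟩ from
          Disc.Omega.ext (QFDualLib.omega_algebraMap_smul r ⟨l⟩).symm, ← TensorProduct.smul_tmul,
          algebraMap_smul, TensorProduct.smul_tmul']))
  let Θ : Disc.Omega Ah B'h → C ⊗[B'] Disc.Omega A B' :=
    fun ω => T0 ((LinearEquiv.ofBijective _ hbij).symm ω.toLinearMap)
  have Θadd : ∀ x y, Θ (x + y) = Θ x + Θ y := fun x y => by
    simp only [Θ, Disc.Omega.add_toLinearMap, map_add]
  have Θbc : ∀ (a : Ah) (l : Disc.Omega A B'),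
      Θ (algebraMap Ah B'h a • QFDual.bcFin hP l) = algebraMap Ah C a ⊗ₜ[B'] l := fun a l => by
    have h1 : (algebraMap Ah B'h a • QFDual.bcFin hP l).toLinearMap =
        LinearMap.liftBaseChange Ah hP.out.toDual (a ⊗ₜ[A] l.toLinearMap) := by
      rw [LinearMap.liftBaseChange_tmul, QFDualLib.omega_algebraMap_smul]
      rfl
    show T0 ((LinearEquiv.ofBijective _ hbij).symm _) = _
    rw [h1, show LinearMap.liftBaseChange Ah hP.out.toDual (a ⊗ₜ[A] l.toLinearMap) =
      LinearEquiv.ofBijective _ hbij (a ⊗ₜ[A] l.toLinearMap) from rfl, LinearEquiv.symm_apply_apply]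
    rfl
  have Θ0 : Θ 0 = 0 := by simp [Θ]
  have Θsmul : ∀ (x : B'h) (ω : Disc.Omega Ah B'h), Θ (x • ω) = π' x • Θ ω := by
    intro x ω
    induction ω using QFDualLib.omega_induction hP hbij with
    | h0 => rw [smul_zero, Θ0, smul_zero]
    | hadd y z hy hz => rw [smul_add, Θadd, hy, hz, Θadd, smul_add]
    | h a l =>
      induction x using QFDualLib.mul_induction hP with
      | h0 => rw [zero_smul, Θ0, map_zero, zero_smul]
      | hadd y z hy hz => rw [add_smul, Θadd, hy, hz, map_add, add_smul]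
      | h c b' =>
        rw [mul_smul, smul_comm (algebraMap B' B'h b'), ← LinearMap.map_smulₛₗ, ← mul_smul, ← map_mul, Θbc, Θbc,
          map_mul, map_mul, AlgHom.commutes, ← hcompat,
          ← smul_tmul, TensorProduct.smul_tmul', smul_eq_mul, Algebra.smul_def]
        congr 1
        ring
  let Λ : Disc.Omega Ah C → C ⊗[B'] Disc.Omega A B' := fun l => Θ ⟨l.toLinearMap ∘ₗ π'.toLinearMap⟩
  have hΛ : ∀ t, Λ (Ψ t) = t := by
    intro t
    induction t using TensorProduct.induction_on with
    | zero =>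
      rw [map_zero]
      show Θ ⟨(0 : Disc.Omega Ah C).toLinearMap ∘ₗ π'.toLinearMap⟩ = 0
      rw [Disc.Omega.zero_toLinearMap, LinearMap.zero_comp]
      exact Θ0
    | add x y hx hy =>
      rw [map_add]
      show Θ ⟨(Ψ x + Ψ y).toLinearMap ∘ₗ π'.toLinearMap⟩ = _
      rw [Disc.Omega.add_toLinearMap, LinearMap.add_comp]
      exact (Θadd ⟨_⟩ ⟨_⟩).trans (congrArg₂ (· + ·) hx hy)
    | tmul c l =>
      obtain ⟨z, rfl⟩ := hπ's c
      have h1 : (⟨(Ψ (π' z ⊗ₜ[B'] l)).toLinearMap ∘ₗ π'.toLinearMap⟩ : Disc.Omega Ah B'h) =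
          (e' * z) • QFDual.bcFin hP l := by
        refine Disc.Omega.ext (LinearMap.ext fun w => ?_)
        show (π' z • Ψ0 l).toLinearMap (π' w) = ((e' * z) • QFDual.bcFin hP l).toLinearMap w
        rw [Disc.Omega.smul_toLinearMap_apply, Disc.Omega.smul_toLinearMap_apply, ← map_mul]
        show (QFDual.bcFin hP l).toLinearMap (s (π' (z * w))) = _
        rw [hs', mul_assoc]
      show Θ ⟨(Ψ (π' z ⊗ₜ[B'] l)).toLinearMap ∘ₗ π'.toLinearMap⟩ = π' z ⊗ₜ[B'] l
      rw [h1, Θsmul, show QFDual.bcFin hP l = algebraMap Ah B'h 1 • QFDual.bcFin hP l by rw [map_one, one_smul],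
        Θbc, map_one, map_mul, hπe', one_mul, TensorProduct.smul_tmul', smul_eq_mul, mul_one]
  have hsurjΨ : Function.Surjective Ψ := by
    intro lam
    have key : ∀ ω : Disc.Omega Ah B'h, ∃ t, (Ψ t).toLinearMap = ω.toLinearMap ∘ₗ s := by
      intro ω
      induction ω using QFDualLib.omega_induction hP hbij with
      | h0 => exact ⟨0, by simp⟩
      | hadd y z hy hz =>
        obtain ⟨t, ht⟩ := hy; obtain ⟨t', ht'⟩ := hz
        exact ⟨t + t', by rw [map_add, Disc.Omega.add_toLinearMap, ht, ht', Disc.Omega.add_toLinearMap, LinearMap.add_comp]⟩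
      | h a l =>
        refine ⟨algebraMap Ah C a ⊗ₜ[B'] l, LinearMap.ext fun c => ?_⟩
        show (algebraMap Ah C a • Ψ0 l).toLinearMap c = _
        rw [Disc.Omega.smul_toLinearMap_apply, LinearMap.comp_apply, Disc.Omega.smul_toLinearMap_apply, ← Algebra.smul_def,
          ← Algebra.smul_def]
        show (QFDual.bcFin hP l).toLinearMap (s (a • c)) = _
        rw [map_smul]
    obtain ⟨t, ht⟩ := key ⟨lam.toLinearMap ∘ₗ π'.toLinearMap⟩
    refine ⟨t, Disc.Omega.ext (ht.trans (LinearMap.ext fun c => ?_))⟩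
    show lam.toLinearMap (π' (e' * Function.surjInv hπ's c)) = lam.toLinearMap c
    rw [map_mul, hπe', one_mul, Function.surjInv_eq hπ's]
  refine ⟨LinearEquiv.ofBijective Ψ ⟨fun x y h => by rw [← hΛ x, h, hΛ], hsurjΨ⟩, fun l z => ?_⟩
  show ((1 : C) • Ψ0 l).toLinearMap (π' z) = _
  rw [one_smul]
  show (QFDual.bcFin hP l).toLinearMap (s (π' z)) = _
  rw [hs']

/-- The comparison of `C ⊗ Hom_A(B', A)` with `Hom_{A₁}(C, A₁)` without the formula. -/
theorem nonempty_equiv_omega {A Ah B' B'h C : Type u} [CommRing A] [CommRing Ah] [CommRing B'] [CommRing B'h]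
    [CommRing C] [Algebra A B'] [Algebra A Ah] [Algebra B' B'h] [Algebra Ah B'h] [Algebra A B'h]
    [IsScalarTower A Ah B'h] [IsScalarTower A B' B'h] [Algebra Ah C] [Algebra A C] [IsScalarTower A Ah C]
    [Algebra B' C] [IsScalarTower A B' C] [Module.Flat A Ah] [Module.FinitePresentation A B']
    (hP : Algebra.IsPushout A Ah B' B'h) (π' : B'h →ₐ[Ah] C) (hπ's : Function.Surjective π')
    (hcompat : ∀ b', algebraMap B' C b' = π' (algebraMap B' B'h b')) {e' : B'h}
    (hkil : ∀ z, π' z = 0 → e' * z = 0) (hπe' : π' e' = 1) :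
    Nonempty (C ⊗[B'] Disc.Omega A B' ≃ₗ[C] Disc.Omega Ah C) :=
  let ⟨E, _⟩ := exists_equiv_omega hP π' hπ's hcompat hkil hπe'
  ⟨E⟩

section Component

variable {R D : Type u} [CommRing R] [IsLocalRing R] [CommRing D] [Algebra R D] (k : Type u) [Field k] [Algebra R k]

theorem ker_residue (hk : Function.Surjective (algebraMap R k)) : RingHom.ker (algebraMap R k) = maximalIdeal R :=
  IsLocalRing.eq_maximalIdeal (RingHom.ker_isMaximal_of_surjective _ hk)

theorem finite_quot (hk : Function.Surjective (algebraMap R k)) [Module.Finite k (k ⊗[R] D)] :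
    Module.Finite R (D ⧸ (maximalIdeal R).map (algebraMap R D)) := by
  have : Module.Finite R k := Module.Finite.of_surjective (Algebra.linearMap R k) hk
  have : Module.Finite R (k ⊗[R] D) := Module.Finite.trans k _
  let e1 : k ⊗[R] D ≃ₗ[R] (R ⧸ maximalIdeal R) ⊗[R] D :=
    TensorProduct.congr
      ((Ideal.quotientKerAlgEquivOfSurjective (f := Algebra.ofId R k) hk).symm.trans
        (Ideal.quotientEquivAlgOfEq R (show RingHom.ker (Algebra.ofId R k) = maximalIdeal R from ker_residue k hk))).toLinearEquiv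
      (LinearEquiv.refl R D)
  exact Module.Finite.equiv ((e1.trans (TensorProduct.quotTensorEquivQuotSMul D (maximalIdeal R))).trans
    (((Submodule.quotEquivOfEq _ _ (Ideal.smul_top_eq_map (R := R) (S := D) (maximalIdeal R))).trans
      (Submodule.Quotient.restrictScalarsEquiv R _))))

theorem component_data (hk : Function.Surjective (algebraMap R k)) [Module.Flat R D] {e : D}
    (he : IsIdempotentElem e) (he1 : e - 1 ∈ (maximalIdeal R).map (algebraMap R D))
    [Module.Finite R (D ⧸ Ideal.span ({1 - e} : Set D))] [IsNoetherianRing R] :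
    Module.Flat D (D ⧸ Ideal.span ({1 - e} : Set D)) ∧ Module.Free R (D ⧸ Ideal.span ({1 - e} : Set D)) ∧
      Nonempty (k ⊗[R] D ≃ₐ[k] k ⊗[R] (D ⧸ Ideal.span ({1 - e} : Set D))) := by
  let C := D ⧸ Ideal.span ({1 - e} : Set D)
  let π : D →ₐ[R] C := Ideal.Quotient.mkₐ R _
  have hπ : Function.Surjective π := Ideal.Quotient.mk_surjective
  have : IsLocalization.Away e C :=
    IsLocalization.away_of_isIdempotentElem he Ideal.mk_ker Ideal.Quotient.mk_surjective
  have : Module.Flat D C := IsLocalization.flat C (Submonoid.powers e)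
  have : Module.Flat R C := Module.Flat.trans R D C
  have : Module.Free R C := by
    have : Module.FinitePresentation R C := Module.finitePresentation_of_finite R C
    exact Module.free_of_flat_of_isLocalRing
  refine ⟨inferInstance, inferInstance, ?_⟩
  let πk : D →ₐ[R] k ⊗[R] D := Algebra.TensorProduct.includeRight
  have hk0 : ∀ z ∈ (maximalIdeal R).map (algebraMap R D), πk z = 0 := by
    intro z hz
    refine (Ideal.map_le_iff_le_comap.2 (fun a ha => ?_) :
      (maximalIdeal R).map (algebraMap R D) ≤ RingHom.ker πk.toRingHom) hz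
    show πk (algebraMap R D a) = 0
    rw [AlgHom.commutes, IsScalarTower.algebraMap_apply R k (k ⊗[R] D),
      show algebraMap R k a = 0 from RingHom.mem_ker.1 ((ker_residue k hk).ge ha), map_zero]
  refine ⟨AlgEquiv.ofBijective (Algebra.TensorProduct.map (AlgHom.id k k) π) ⟨?_, ?_⟩⟩
  · refine (injective_iff_map_eq_zero _).2 fun t ht => ?_
    have hker := Algebra.TensorProduct.lTensor_ker (A := k) π hπ
    have hmem : t ∈ (RingHom.ker π).map (Algebra.TensorProduct.includeRight : D →ₐ[R] k ⊗[R] D) :=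
      hker.le ht
    refine (Ideal.map_le_iff_le_comap.2 (fun z hz => ?_) : _ ≤ (⊥ : Ideal (k ⊗[R] D))) hmem
    rw [Ideal.mem_comap, Ideal.mem_bot]
    obtain ⟨d, rfl⟩ := Ideal.mem_span_singleton'.1 ((Ideal.Quotient.mkₐ_ker R _).le hz)
    show πk (d * (1 - e)) = 0
    rw [map_mul, show (1 : D) - e = -(e - 1) by ring, map_neg, hk0 _ he1, neg_zero, mul_zero]
  · intro t
    induction t using TensorProduct.induction_on with
    | zero => exact ⟨0, map_zero _⟩
    | tmul c d =>
      obtain ⟨d, rfl⟩ := hπ d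
      exact ⟨c ⊗ₜ d, Algebra.TensorProduct.map_tmul _ _ _ _⟩
    | add x y hx hy =>
      obtain ⟨x, rfl⟩ := hx; obtain ⟨y, rfl⟩ := hy
      exact ⟨x + y, map_add _ _ _⟩

end Component

/-- A finite flat quotient which is an epimorphism is cut out by an idempotent. -/
theorem exists_section {R D' D : Type u} [CommRing R] [IsNoetherianRing R] [CommRing D'] [CommRing D] [Algebra R D']
    [Algebra R D] [Module.Finite R D'] [Module.Finite R D] (π' : D' →ₐ[R] D) [Epi (CommRingCat.ofHom π'.toRingHom)]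
    (hflat : π'.toRingHom.Flat) :
    Function.Surjective π' ∧ ∃ e' : D', (∀ z, π' z = 0 → e' * z = 0) ∧ π' e' = 1 := by
  have hs : Function.Surjective π' :=
    RingHom.surjective_of_epi_of_finite (CommRingCat.ofHom π'.toRingHom)
      (RingHom.Finite.of_comp_finite (f := algebraMap R D') (g := π'.toRingHom) (by
        rw [show π'.toRingHom.comp (algebraMap R D') = algebraMap R D from π'.comp_algebraMap]
        exact RingHom.finite_algebraMap.2 inferInstance))
  have : IsNoetherianRing D' := IsNoetherianRing.of_finite R D'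
  obtain ⟨e₀, he₀, he₀I⟩ : ∃ e₀ : D', IsIdempotentElem e₀ ∧ RingHom.ker π'.toRingHom = Ideal.span {e₀} := by
    letI : Algebra D' D := π'.toRingHom.toAlgebra
    have : Module.Flat D' D := hflat
    have : (RingHom.ker π'.toRingHom).Pure :=
      Module.Flat.of_linearEquiv
        (Ideal.quotientKerAlgEquivOfSurjective (f := Algebra.ofId D' D) hs).toLinearEquiv
    exact (Ideal.isIdempotentElem_iff_of_fg _ (IsNoetherian.noetherian _)).1
      (Ideal.isIdempotentElem_of_pure _)
  refine ⟨hs, 1 - e₀, fun z hz => ?_, ?_⟩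
  · obtain ⟨d, rfl⟩ := Ideal.mem_span_singleton'.1 (he₀I.le hz)
    rw [sub_mul, one_mul, mul_left_comm, he₀.eq, sub_self]
  · rw [map_sub, map_one, show π' e₀ = 0 from RingHom.mem_ker.1 (he₀I.ge (Ideal.mem_span_singleton_self _)), sub_zero]

/-- The completed map of an open immersion, followed by a quotient, is an epimorphism. -/
theorem epi_completed {A Ah B' B T : Type u} [CommRing A] [CommRing Ah] [CommRing B'] [CommRing B] [CommRing T]
    [Algebra A Ah] [Algebra A B'] [Algebra A B] [Algebra B' B] [IsScalarTower A B' B]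
    (hopen : IsOpenImmersion (Spec.map (CommRingCat.ofHom (algebraMap B' B)))) (π : Ah ⊗[A] B →+* T)
    (hπ : Function.Surjective π) :
    Epi (CommRingCat.ofHom
      (π.comp (Algebra.TensorProduct.map (AlgHom.id Ah Ah) (IsScalarTower.toAlgHom A B' B)).toRingHom)) := by
  refine ⟨fun {T} u v huv => ?_⟩
  have hB' : Epi (CommRingCat.ofHom (algebraMap B' B)) := by
    refine ⟨fun {T} u v h => ?_⟩
    refine Spec.map_injective ((cancel_mono (Spec.map (CommRingCat.ofHom (algebraMap B' B)))).1 ?_)
    rw [← Spec.map_comp, ← Spec.map_comp, h]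
  have h1 : CommRingCat.ofHom (π.comp (Algebra.TensorProduct.includeRight : B →ₐ[A] Ah ⊗[A] B).toRingHom) ≫ u =
      CommRingCat.ofHom (π.comp (Algebra.TensorProduct.includeRight : B →ₐ[A] Ah ⊗[A] B).toRingHom) ≫ v := by
    refine hB'.left_cancellation _ _ ?_
    ext b'
    exact RingHom.congr_fun (congrArg CommRingCat.Hom.hom huv) ((1 : Ah) ⊗ₜ[A] b')
  ext c
  obtain ⟨z, rfl⟩ := hπ c
  induction z using TensorProduct.induction_on with
  | zero => simp
  | add x y hx hy => simp only [map_add, hx, hy]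
  | tmul a b =>
    rw [show a ⊗ₜ[A] b = (Algebra.TensorProduct.map (AlgHom.id Ah Ah) (IsScalarTower.toAlgHom A B' B))
      (a ⊗ₜ[A] (1 : B')) * ((1 : Ah) ⊗ₜ[A] b) by simp, map_mul, map_mul, map_mul]
    congr 1
    · exact RingHom.congr_fun (congrArg CommRingCat.Hom.hom huv) (a ⊗ₜ[A] (1 : B'))
    · exact RingHom.congr_fun (congrArg CommRingCat.Hom.hom h1) b

/-- The prime of the component over a given point of the closed fibre. -/
theorem exists_prime_over {A Ah B k F : Type u} [CommRing A] [CommRing Ah] [IsLocalRing Ah] [CommRing B] [Field k]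
    [Field F] [Algebra A Ah] [Algebra A B] [Algebra A k] [Algebra Ah k] [IsScalarTower A Ah k] [Algebra A F]
    [Algebra B F] [IsScalarTower A B F] (hk : Function.Surjective (algebraMap Ah k)) (i : k →ₐ[A] F)
    {e : Ah ⊗[A] B} (he1 : e - 1 ∈ (maximalIdeal Ah).map (algebraMap Ah (Ah ⊗[A] B))) :
    ∃ Q : Ideal ((Ah ⊗[A] B) ⧸ Ideal.span ({1 - e} : Set (Ah ⊗[A] B))), Q.IsPrime ∧
      Q.comap (algebraMap B ((Ah ⊗[A] B) ⧸ Ideal.span ({1 - e} : Set (Ah ⊗[A] B)))) = RingHom.ker (algebraMap B F) := by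
  let ψ : Ah ⊗[A] B →ₐ[A] F := Algebra.TensorProduct.lift
    (i.comp (IsScalarTower.toAlgHom A Ah k)) (IsScalarTower.toAlgHom A B F)
    (fun x y => @Commute.all F _ _ _)
  have hψm : ∀ z ∈ (maximalIdeal Ah).map (algebraMap Ah (Ah ⊗[A] B)), ψ z = 0 := by
    intro z hz
    refine (Ideal.map_le_iff_le_comap.2 (fun a ha => ?_) :
      (maximalIdeal Ah).map (algebraMap Ah (Ah ⊗[A] B)) ≤ RingHom.ker ψ.toRingHom) hz
    show ψ (a ⊗ₜ[A] (1 : B)) = 0
    rw [Algebra.TensorProduct.lift_tmul, map_one, mul_one, AlgHom.comp_apply,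
      show (IsScalarTower.toAlgHom A Ah k) a = 0 from RingHom.mem_ker.1 ((ker_residue k hk).ge ha), map_zero]
  have hψe : ψ (1 - e) = 0 := by
    rw [show (1 : Ah ⊗[A] B) - e = -(e - 1) by ring, map_neg, hψm _ he1, neg_zero]
  let ψC : ((Ah ⊗[A] B) ⧸ Ideal.span ({1 - e} : Set (Ah ⊗[A] B))) →+* F :=
    Ideal.Quotient.lift _ ψ.toRingHom fun z hz => by
      obtain ⟨d, rfl⟩ := Ideal.mem_span_singleton'.1 hz
      show ψ (d * (1 - e)) = 0
      rw [map_mul, hψe, mul_zero]
  refine ⟨RingHom.ker ψC, RingHom.ker_isPrime ψC, ?_⟩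
  ext b
  rw [Ideal.mem_comap, RingHom.mem_ker, RingHom.mem_ker]
  show ψ ((1 : Ah) ⊗ₜ[A] b) = 0 ↔ _
  rw [Algebra.TensorProduct.lift_tmul, map_one, one_mul]
  rfl

/-- The finite free component over a complete local base. -/
theorem component_of_complete (A B' B Ah k : Type u) [CommRing A] [CommRing B'] [CommRing B] [IsNoetherianRing A]
    [Algebra A B'] [Algebra B' B] [Algebra A B] [IsScalarTower A B' B] [Module.Finite A B']
    [Algebra.FinitePresentation A B] [Module.Flat A B] [Algebra.QuasiFinite A B]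
    [CommRing Ah] [IsLocalRing Ah] [IsNoetherianRing Ah] [HenselianRing Ah (maximalIdeal Ah)] [Algebra A Ah]
    [Module.Flat A Ah] [Field k] [Algebra A k] [Algebra Ah k] [IsScalarTower A Ah k] [Module.Finite k (k ⊗[A] B)]
    (hksurj : Function.Surjective (algebraMap Ah k))
    (hopen : IsOpenImmersion (Spec.map (CommRingCat.ofHom (algebraMap B' B)))) (M : Ideal B) [M.IsPrime]
    (i : k →ₐ[A] M.ResidueField) :
    ∃ (C : Type u) (_ : CommRing C) (_ : Algebra B C), Module.Flat B C ∧
      (∃ Q : Ideal C, Q.IsPrime ∧ Q.comap (algebraMap B C) = M) ∧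
      ∃ (_ : Algebra Ah C) (_ : Algebra A C) (_ : IsScalarTower A Ah C) (_ : IsScalarTower A B C),
        Module.Finite Ah C ∧ Module.Free Ah C ∧
        Nonempty (k ⊗[A] B ≃ₐ[k] k ⊗[Ah] C) ∧
        Nonempty (C ⊗[B] (B ⊗[B'] Disc.Omega A B') ≃ₗ[C] Disc.Omega Ah C) ∧
        ∃ π' : Ah ⊗[A] B' →ₐ[Ah] C, Function.Surjective π' ∧
          (∀ b', π' ((1 : Ah) ⊗ₜ[A] b') = algebraMap B C (algebraMap B' B b')) ∧
          ∃ e', (∀ z, π' z = 0 → e' * z = 0) ∧ π' e' = 1 := by
  classical
  have : Algebra.QuasiFinite Ah (Ah ⊗[A] B) := inferInstance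
  have : Module.Finite k (k ⊗[Ah] (Ah ⊗[A] B)) :=
    Module.Finite.equiv (Algebra.TensorProduct.cancelBaseChange A Ah k k B).symm.toLinearEquiv
  have := finite_quot (D := Ah ⊗[A] B) k hksurj
  obtain ⟨e, he, he1, hfin⟩ := HenselLib.exists_idem_finite (A := Ah) (B := Ah ⊗[A] B) (I := maximalIdeal Ah)
  obtain ⟨hflatC, hfree, ⟨Ek⟩⟩ := component_data k hksurj he he1
  let C := (Ah ⊗[A] B) ⧸ Ideal.span ({1 - e} : Set (Ah ⊗[A] B))
  let gh : Ah ⊗[A] B' →ₐ[Ah] Ah ⊗[A] B := Algebra.TensorProduct.map (AlgHom.id Ah Ah) (IsScalarTower.toAlgHom A B' B)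
  let π' : Ah ⊗[A] B' →ₐ[Ah] C := (Ideal.Quotient.mkₐ Ah _).comp gh
  have hepi : Epi (CommRingCat.ofHom π'.toRingHom) :=
    epi_completed hopen (Ideal.Quotient.mk _) Ideal.Quotient.mk_surjective
  have hghflat : gh.toRingHom.Flat := by
    have hgflat : (IsScalarTower.toAlgHom A B' B).Flat := by
      have : Flat (Spec.map (CommRingCat.ofHom (algebraMap B' B))) := inferInstance
      exact (HasRingHomProperty.Spec_iff (P := @Flat)).1 this
    have hidflat : (AlgHom.id A Ah).Flat := RingHom.Flat.id Ah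
    exact RingHom.Flat.tensorProductMap hidflat hgflat
  obtain ⟨hπ's, e', hkil, hπe'⟩ := exists_section π'
    (RingHom.Flat.comp hghflat (RingHom.flat_algebraMap_iff.2 hflatC))
  have : Module.FinitePresentation A B' := Module.finitePresentation_of_finite A B'
  letI algB'C : Algebra B' C := (π'.toRingHom.comp (Algebra.TensorProduct.includeRight : B' →ₐ[A] Ah ⊗[A] B').toRingHom).toAlgebra
  have hB'C : ∀ b', algebraMap B' C b' = π' ((1 : Ah) ⊗ₜ[A] b') := fun b' => rfl
  have : IsScalarTower B' B C := IsScalarTower.of_algebraMap_eq (R := B') (S := B) (A := C) fun b' => by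
    rw [hB'C]
    show Ideal.Quotient.mk _ (gh ((1 : Ah) ⊗ₜ[A] b')) = Ideal.Quotient.mk _ ((1 : Ah) ⊗ₜ[A] algebraMap B' B b')
    simp [gh]
  have : IsScalarTower A B' C := IsScalarTower.of_algebraMap_eq fun a => by
    rw [hB'C, show ((1 : Ah) ⊗ₜ[A] algebraMap A B' a) = algebraMap A (Ah ⊗[A] B') a from
      (Algebra.TensorProduct.tmul_one_eq_one_tmul a).symm]
    exact ((π'.restrictScalars A).commutes a).symm
  obtain ⟨Ψe⟩ := nonempty_equiv_omega (A := A) (B' := B')
    (TensorProduct.isPushout : Algebra.IsPushout A Ah B' (Ah ⊗[A] B')) π' hπ's (fun b' => rfl) hkil hπe'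
  have hP' : Algebra.IsPushout A B Ah (Ah ⊗[A] B) := (TensorProduct.isPushout : Algebra.IsPushout A Ah B (Ah ⊗[A] B)).symm
  have : Module.Flat B (Ah ⊗[A] B) := Module.Flat.isBaseChange A B Ah (Ah ⊗[A] B) hP'.out
  have hCflat : Module.Flat B C := Module.Flat.trans B (Ah ⊗[A] B) C
  obtain ⟨Q, hQ, hQM⟩ := exists_prime_over (F := M.ResidueField) hksurj i he1
  exact ⟨C, inferInstance, inferInstance, hCflat, ⟨Q, hQ, hQM.trans (Ideal.ker_algebraMap_residueField M)⟩,
    inferInstance, inferInstance, inferInstance, inferInstance, hfin, hfree,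
    ⟨(Algebra.TensorProduct.cancelBaseChange A Ah k k B).symm.trans Ek⟩,
    ⟨(TensorProduct.AlgebraTensorModule.cancelBaseChange B' B C C (Disc.Omega A B')).trans Ψe⟩,
    π', hπ's, fun b' => (hB'C b').symm.trans (IsScalarTower.algebraMap_apply B' B C b'), e', hkil, hπe'⟩

section

variable (A B' B : Type u) [CommRing A] [CommRing B'] [CommRing B] [IsNoetherianRing A] [Algebra A B']
  [Algebra B' B] [Algebra A B] [IsScalarTower A B' B] [Module.Finite A B']

omit [IsNoetherianRing A] in
theorem quasiFinite_of_openImmersion [Algebra.FiniteType A B]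
    (h : IsOpenImmersion (Spec.map (CommRingCat.ofHom (algebraMap B' B)))) : Algebra.QuasiFinite A B := by
  refine Algebra.QuasiFinite.iff_finite_comap_preimage_singleton.2 fun p => ?_
  have hinj : Function.Injective (PrimeSpectrum.comap (algebraMap B' B)) :=
    (Spec.map (CommRingCat.ofHom (algebraMap B' B))).isOpenEmbedding.injective
  have h2 := (Algebra.QuasiFinite.finite_comap_preimage_singleton (R := A) (S := B') p).preimage hinj.injOn
  refine h2.subset fun q hq => ?_
  rw [Set.mem_preimage, Set.mem_preimage, Set.mem_singleton_iff] at *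
  rw [← PrimeSpectrum.comap_comp_apply, ← IsScalarTower.algebraMap_eq]
  exact hq

/-- Near every prime, after a flat extension, the factor is finite free over a complete local ring. -/
theorem exists_component (hopen : IsOpenImmersion (Spec.map (CommRingCat.ofHom (algebraMap B' B))))
    [Algebra.FinitePresentation A B] [Module.Flat A B] (M : Ideal B) [M.IsPrime] :
    ∃ (Ah : Type u) (_ : CommRing Ah) (_ : IsLocalRing Ah) (_ : Algebra A Ah)
      (_ : Algebra Ah (M.comap (algebraMap A B)).ResidueField)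
      (_ : IsScalarTower A Ah (M.comap (algebraMap A B)).ResidueField),
      IsNoetherianRing Ah ∧ Module.Flat A Ah ∧
      Function.Surjective (algebraMap Ah (M.comap (algebraMap A B)).ResidueField) ∧
      ∃ (C : Type u) (_ : CommRing C) (_ : Algebra B C), Module.Flat B C ∧
      (∃ Q : Ideal C, Q.IsPrime ∧ Q.comap (algebraMap B C) = M) ∧
      ∃ (_ : Algebra Ah C) (_ : Algebra A C) (_ : IsScalarTower A Ah C) (_ : IsScalarTower A B C),
        Module.Finite Ah C ∧ Module.Free Ah C ∧
        Nonempty ((M.comap (algebraMap A B)).ResidueField ⊗[A] B ≃ₐ[(M.comap (algebraMap A B)).ResidueField]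
          (M.comap (algebraMap A B)).ResidueField ⊗[Ah] C) ∧
        Nonempty (C ⊗[B] (B ⊗[B'] Disc.Omega A B') ≃ₗ[C] Disc.Omega Ah C) ∧
        ∃ π' : Ah ⊗[A] B' →ₐ[Ah] C, Function.Surjective π' ∧
          (∀ b', π' ((1 : Ah) ⊗ₜ[A] b') = algebraMap B C (algebraMap B' B b')) ∧
          ∃ e', (∀ z, π' z = 0 → e' * z = 0) ∧ π' e' = 1 := by
  classical
  have := quasiFinite_of_openImmersion A B' B hopen
  let p : Ideal A := M.comap (algebraMap A B)
  let Ap := Localization.AtPrime p
  have : IsNoetherianRing Ap := IsLocalization.isNoetherianRing p.primeCompl _ inferInstance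
  let Ah := AdicCompletion (maximalIdeal Ap) Ap
  have hAhN : IsNoetherianRing Ah := AdicRingLib.isNoetherianRing_adicCompletion _
  have : Module.Flat Ap Ah := AdicCompletion.flat_of_isNoetherian _
  have : Module.Flat A Ap := IsLocalization.flat Ap p.primeCompl
  have hAhflat : Module.Flat A Ah := Module.Flat.trans A Ap Ah
  have hAhc : IsAdicComplete (maximalIdeal Ah) Ah := by
    rw [show maximalIdeal Ah = (maximalIdeal Ap).map (algebraMap Ap Ah) from AdicCompletion.maximalIdeal_eq_map]
    exact AdicRingLib.isAdicComplete_map (IsNoetherian.noetherian _)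
  let k := p.ResidueField
  let ev : Ah →ₐ[Ap] k := AdicCompletion.evalOneₐ (maximalIdeal Ap)
  letI algk : Algebra Ah k := ev.toRingHom.toAlgebra
  have htower : IsScalarTower A Ah k := IsScalarTower.of_algebraMap_eq fun a => by
    rw [IsScalarTower.algebraMap_apply A Ap k, IsScalarTower.algebraMap_apply A Ap Ah]
    exact (ev.commutes _).symm
  have hksurj : Function.Surjective (algebraMap Ah k) := AdicCompletion.evalOneₐ_surjective _
  exact ⟨Ah, inferInstance, inferInstance, inferInstance, algk, htower, hAhN, hAhflat, hksurj,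
    component_of_complete A B' B Ah k hksurj hopen M (Ideal.ResidueField.mapₐ p M (Algebra.ofId A B) rfl)⟩

/-- Near every maximal ideal, after a flat extension, `ω` is free of rank one. -/
theorem exists_chart (hopen : IsOpenImmersion (Spec.map (CommRingCat.ofHom (algebraMap B' B))))
    (hs : Synt.IsSyntomic A B) (M : Ideal B) [M.IsMaximal] :
    ∃ (C : Type u) (_ : CommRing C) (_ : Algebra B C), Module.Flat B C ∧
      (∃ Q : Ideal C, Q.IsPrime ∧ Q.comap (algebraMap B C) = M) ∧
      Nonempty (C ⊗[B] (B ⊗[B'] Disc.Omega A B') ≃ₗ[C] C) := by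
  have : Algebra.FinitePresentation A B := hs.2.1
  have : Module.Flat A B := hs.1
  have := quasiFinite_of_openImmersion A B' B hopen
  obtain ⟨Ah, _, _, _, _, _, _, _, hk, C, _, _, hflat, hQ, _, _, _, _, _, _, ⟨Ek⟩, ⟨E⟩, -⟩ :=
    exists_component A B' B hopen M
  let p : Ideal A := M.comap (algebraMap A B)
  have : Module.Finite p.ResidueField (p.ResidueField ⊗[A] B) := Algebra.QuasiFinite.finite_fiber (R := A) (S := B) p
  have : Module.Flat Ah C := inferInstance
  have : Algebra.FinitePresentation Ah C := Algebra.FinitePresentation.of_finiteType.1 inferInstance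
  have hsq : IsSq Ah C := isSq_of_fibre p.ResidueField hk
    ((isSq_of_isLCIOver p.ResidueField _ (hs.2.2 ⟨p, inferInstance⟩)).of_algEquiv Ek)
  obtain ⟨n, φ, f, hφ, hker⟩ := hsq.exists_fin
  obtain ⟨L, -⟩ := exists_omega_equiv hφ hker
  exact ⟨C, inferInstance, inferInstance, hflat, hQ, ⟨E.trans L⟩⟩

end

/-- `ω` of a quasi-finite syntomic map is invertible. -/
theorem invertible_omega (A B' B : Type u) [CommRing A] [CommRing B'] [CommRing B] [IsNoetherianRing A]
    [Algebra A B'] [Algebra B' B] [Algebra A B] [IsScalarTower A B' B] (hf : QFDual.IsQFFactor A B' B)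
    (hs : Synt.IsSyntomic A B) : Module.Invertible B (QFDual.omega A B' B) := by
  have := hf.finite
  have : Algebra.FinitePresentation A B := hs.2.1
  have : IsNoetherianRing B := Algebra.FiniteType.isNoetherianRing A B
  have : Module.FinitePresentation A B' := Module.finitePresentation_of_finite A B'
  classical
  have : Module.Finite B' (Disc.Omega A B') := by
    obtain ⟨S, hS⟩ := Module.finite_def.1 (inferInstance : Module.Finite A (Module.Dual A B'))
    refine ⟨⟨S.image fun l => (⟨l⟩ : Disc.Omega A B'), eq_top_iff.2 fun l _ => ?_⟩⟩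
    have hl : l.toLinearMap ∈ Submodule.span A (S : Set (Module.Dual A B')) := hS ▸ Submodule.mem_top
    suffices H : ∀ ψ ∈ Submodule.span A (S : Set (Module.Dual A B')),
        (⟨ψ⟩ : Disc.Omega A B') ∈ Submodule.span B' ((S.image fun l => (⟨l⟩ : Disc.Omega A B') : Finset _) : Set (Disc.Omega A B'))
      from H _ hl
    intro ψ hψ
    induction hψ using Submodule.span_induction with
    | mem x hx => exact Submodule.subset_span (by rw [Finset.coe_image]; exact ⟨x, hx, rfl⟩)
    | zero => exact Submodule.zero_mem _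
    | add x y _ _ hx hy => exact Submodule.add_mem _ hx hy
    | smul r x _ hx =>
      rw [show (⟨r • x⟩ : Disc.Omega A B') = algebraMap A B' r • ⟨x⟩ from
        Disc.Omega.ext (QFDualLib.omega_algebraMap_smul r ⟨x⟩).symm]
      exact Submodule.smul_mem _ _ hx
  exact invertible_of_charts fun M _ => exists_chart A B' B hf.isOpenImmersion hs M

end TateLib
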