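import Groth.Agent.KRLib.Seq
import Groth.Agent.KRLib.Pres
import Groth.Agent.GorLib.RegSeq
import Groth.Agent.CommAlgDim.CM
import Groth.Agent.CommAlgDim.GlobalDim
import Mathlib.RingTheory.RegularLocalRing.Polynomial
import Mathlib.RingTheory.Jacobson.Artinian

/-!
# The socle determinant of a zero-dimensional square complete intersection

If `f = c (X - a)` in `K[X₁, …, Xₙ]` and `K[X]/(f)` is finite over `K`, then `det c ∉ (f)`.
-/

set_option autoImplicit false

universe u

open MvPolynomial IsLocalRing KoszDetLib RingTheory.Sequence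

namespace TateLib

variable {K : Type u} [Field K] {n : ℕ}

theorem exists_notMem_mul_maximalIdeal {S : Type u} [CommRing S] [IsLocalRing S] [IsArtinianRing S] :
    ∃ s : S, s ≠ 0 ∧ ∀ x ∈ maximalIdeal S, s * x = 0 := by
  obtain ⟨k, hk⟩ := (IsArtinianRing.isNilpotent_jacobson_bot (R := S))
  rw [IsLocalRing.jacobson_eq_maximalIdeal ⊥ bot_ne_top] at hk
  have hex : ∃ k, maximalIdeal S ^ k = 0 := ⟨k, hk⟩
  classical
  let m := Nat.find hex
  have hm : maximalIdeal S ^ m = 0 := Nat.find_spec hex
  have hm0 : m ≠ 0 := by
    intro h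
    rw [h, pow_zero] at hm
    exact top_ne_bot (α := Ideal S) (by rw [← Ideal.one_eq_top, hm]; rfl)
  have hlt : maximalIdeal S ^ (m - 1) ≠ 0 := Nat.find_min hex (Nat.sub_one_lt hm0)
  obtain ⟨s, hs, hs0⟩ := (Submodule.ne_bot_iff _).1 hlt
  refine ⟨s, hs0, fun x hx => ?_⟩
  have := Ideal.mul_mem_mul hs hx
  rw [← pow_succ, Nat.sub_add_cancel (Nat.one_le_iff_ne_zero.2 hm0), hm] at this
  exact this

/-- **Wiebe**: the determinant expressing a zero-dimensional square system through the coordinates
of a rational point does not lie in the ideal of the system. -/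
theorem det_notMem (a : Fin n → K) (f : Fin n → MvPolynomial (Fin n) K)
    (c : Matrix (Fin n) (Fin n) (MvPolynomial (Fin n) K))
    (hc : ∀ i, f i = ∑ j, c i j * (X j - C (a j)))
    [Module.Finite K (MvPolynomial (Fin n) K ⧸ Ideal.span (Set.range f))] :
    c.det ∉ Ideal.span (Set.range f) := by
  classical
  let Q := MvPolynomial (Fin n) K
  let ev : Q →ₐ[K] K := aeval a
  let M : Ideal Q := RingHom.ker ev.toRingHom
  have hevC : ∀ x, ev (C x) = x := fun x => aeval_C a x
  have hevX : ∀ j, ev (X j) = a j := fun j => aeval_X a j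
  have hsurj : Function.Surjective ev.toRingHom := fun x => ⟨C x, hevC x⟩
  have : M.IsMaximal := RingHom.ker_isMaximal_of_surjective _ hsurj
  let T := Localization.AtPrime M
  have hQ : IsRegularRing Q := inferInstance
  have : IsNoetherianRing Q := inferInstance
  have : IsRegularLocalRing T := IsRegularRing.isRegularLocalRing_localization M
  let σ := algebraMap Q T
  -- the dimension of `T`
  obtain ⟨m, g, hg, hgM⟩ := KRLib.krGen_ker_aeval a
  have hmaxT : M.map σ = maximalIdeal T := IsLocalization.AtPrime.map_eq_maximalIdeal M T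
  let F : Fin n → T := fun i => σ (f i)
  let G : Fin n → T := fun j => σ (X j - C (a j))
  have hspanF : (Ideal.span (Set.range f)).map σ = Ideal.span (Set.range F) := by
    rw [Ideal.map_span, ← Set.range_comp]; rfl
  have hGM : ∀ j, G j ∈ maximalIdeal T := fun j => hmaxT ▸ Ideal.mem_map_of_mem σ (by
    show ev (X j - C (a j)) = 0
    rw [map_sub, hevX, hevC, sub_self])
  have hFM : Ideal.span (Set.range F) ≤ maximalIdeal T := by
    rw [Ideal.span_le]
    rintro _ ⟨i, rfl⟩
    show σ (f i) ∈ maximalIdeal T
    rw [hc i, map_sum]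
    exact Ideal.sum_mem _ fun j _ => by rw [map_mul]; exact Ideal.mul_mem_left _ _ (hGM j)
  have hMspan : M = Ideal.span (Set.range fun j : Fin n => X j - C (a j)) := by
    refine le_antisymm (fun p hp => ?_) (Ideal.span_le.2 ?_)
    · have key : ∀ p : Q, p - C (ev p) ∈ Ideal.span (Set.range fun j : Fin n => X j - C (a j)) := by
        intro p
        induction p using MvPolynomial.induction_on with
        | C x => simp [hevC]
        | add p q hp hq =>
          rw [map_add, map_add, add_sub_add_comm]
          exact add_mem hp hq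
        | mul_X p j hp =>
          have hX : X j - C (a j) ∈ Ideal.span (Set.range fun j : Fin n => X j - C (a j)) :=
            Ideal.subset_span ⟨j, rfl⟩
          have e : p * X j - C (ev (p * X j)) = (p - C (ev p)) * X j + C (ev p) * (X j - C (a j)) := by
            simp [hevX]; ring
          rw [e]
          exact add_mem (Ideal.mul_mem_right _ _ hp) (Ideal.mul_mem_left _ _ hX)
      have := key p
      rwa [show ev p = 0 from hp, map_zero, sub_zero] at this
    · rintro _ ⟨j, rfl⟩
      show ev (X j - C (a j)) = 0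
      rw [map_sub, hevX, hevC, sub_self]
  have hGspan : Ideal.span (Set.range G) = maximalIdeal T := by
    rw [← hmaxT, congrArg (Ideal.map σ) hMspan, Ideal.map_span, ← Set.range_comp]; rfl
  -- the coordinates form a Koszul exact, hence regular, sequence
  have hgT : IsExactK (fun i => σ (g i)) := KRLib.isExactK_of_flat hg
  have hgspanT : Ideal.span (Set.range fun i => σ (g i)) = maximalIdeal T := by
    rw [← hmaxT, congrArg (Ideal.map σ) (show M = Ideal.span (Set.range g) from hgM.symm), Ideal.map_span,
      ← Set.range_comp]; rfl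
  have hmn : m ≤ n := KRLib.length_le_of_isExactK hgT (hgspanT.trans hGspan.symm)
    (hgspanT ▸ (maximalIdeal.isMaximal T).ne_top)
  have hnm : n ≤ m := by
    let v : Fin m → (Fin n → K) := fun i j => ev (pderiv j (g i))
    have hv : ⊤ ≤ Submodule.span K (Set.range v) := by
      rw [← (Pi.basisFun K (Fin n)).span_eq, Submodule.span_le]
      rintro _ ⟨j, rfl⟩
      have hj : X j - C (a j) ∈ Ideal.span (Set.range g) := by
        rw [hgM]; show ev (X j - C (a j)) = 0; rw [map_sub, hevX, hevC, sub_self]
      obtain ⟨w, hw⟩ := Ideal.mem_span_range_iff_exists_fun.1 hj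
      have : Pi.basisFun K (Fin n) j = ∑ i, ev (w i) • v i := by
        funext k
        have h1 := congrArg (fun p => ev (pderiv k p)) hw
        simp only [map_sum, Derivation.leibniz, map_add, smul_eq_mul, map_mul] at h1
        have h2 : ∀ i, ev (g i) = 0 := fun i => by
          have : g i ∈ M := hgM.le (Ideal.subset_span ⟨i, rfl⟩)
          exact this
        simp only [h2, zero_mul, add_zero] at h1
        rw [Finset.sum_apply]
        simp only [Pi.smul_apply, smul_eq_mul, v]
        rw [h1]
        by_cases hkj : j = k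
        · subst hkj; simp
        · simp [hkj, Ne.symm hkj]
      rw [this]
      exact Submodule.sum_mem _ fun i _ => Submodule.smul_mem _ _ (Submodule.subset_span ⟨i, rfl⟩)
    have := finrank_range_le_card (R := K) v
    rw [Set.finrank, top_le_iff.1 hv, finrank_top, Module.finrank_fin_fun, Fintype.card_fin] at this
    exact this
  have hdim : (n : WithBot ℕ∞) ≤ ringKrullDim T := by
    have hgm : ∀ i, (fun i => σ (g i)) i ∈ maximalIdeal T := fun i =>
      hgspanT.le (Ideal.subset_span ⟨i, rfl⟩)
    have hwr := GorLib.isWeaklyRegular_reverse_of_isExactK _ hgT hgm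
    have hof : Ideal.ofList (List.ofFn fun i => σ (g i)).reverse = maximalIdeal T := by
      rw [← hgspanT, Ideal.ofList]
      exact congrArg _ (Set.ext fun x => by simp [List.mem_ofFn])
    have hr : IsRegular T (List.ofFn fun i => σ (g i)).reverse := by
      refine ⟨hwr, ?_⟩
      rw [smul_eq_mul, Ideal.mul_top, hof]
      exact fun h => (maximalIdeal.isMaximal T).ne_top h.symm
    rw [← ringKrullDim_add_length_eq_ringKrullDim_of_isRegular _ hr, List.length_reverse, List.length_ofFn,
      congrArg (fun J : Ideal T => ringKrullDim (T ⧸ J)) hof,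
      show ringKrullDim (T ⧸ maximalIdeal T) = 0 from
        ringKrullDim_eq_zero_of_isField ((Ideal.Quotient.maximal_ideal_iff_isField_quotient _).1 (maximalIdeal.isMaximal T)),
      zero_add]
    exact_mod_cast hnm
  -- the system is regular
  let R := T ⧸ Ideal.span (Set.range F)
  have : Nontrivial R := Ideal.Quotient.nontrivial_iff.2
    (ne_top_of_le_ne_top (maximalIdeal.isMaximal T).ne_top hFM)
  have : IsArtinianRing (Q ⧸ Ideal.span (Set.range f)) := IsArtinianRing.of_finite K _
  have : IsLocalRing R := IsLocalRing.of_surjective' (Ideal.Quotient.mk _) Ideal.Quotient.mk_surjective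
  have : IsArtinianRing R := by
    let φ : Q ⧸ Ideal.span (Set.range f) →+* R := Ideal.Quotient.lift _ ((Ideal.Quotient.mk _).comp σ) fun p hp => by
      show Ideal.Quotient.mk _ (σ p) = 0
      rw [Ideal.Quotient.eq_zero_iff_mem, ← hspanF]
      exact Ideal.mem_map_of_mem σ hp
    refine Function.Surjective.isArtinianRing (f := φ) fun r => ?_
    obtain ⟨z, rfl⟩ := Ideal.Quotient.mk_surjective r
    obtain ⟨⟨p, s⟩, rfl⟩ := IsLocalization.mk'_surjective M.primeCompl z
    obtain ⟨k, t, ht⟩ := IsArtinian.exists_pow_succ_smul_dvd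
      (Ideal.Quotient.mk (Ideal.span (Set.range f)) (s : Q)) (1 : Q ⧸ Ideal.span (Set.range f))
    rw [smul_eq_mul, smul_eq_mul, mul_one] at ht
    refine ⟨Ideal.Quotient.mk _ p * t, ?_⟩
    have hu : IsUnit (φ (Ideal.Quotient.mk _ (s : Q))) :=
      (IsLocalization.map_units T s).map (Ideal.Quotient.mk (Ideal.span (Set.range F)))
    have h1 : φ (Ideal.Quotient.mk _ (s : Q)) * φ t = 1 := by
      have := congrArg φ ht
      rw [map_mul, map_pow, map_pow, pow_succ, mul_assoc] at this
      exact (hu.pow k).mul_eq_left.1 this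
    apply hu.mul_right_cancel
    rw [map_mul, mul_assoc, mul_comm (φ t), h1, mul_one]
    show Ideal.Quotient.mk _ (σ p) = Ideal.Quotient.mk _ (IsLocalization.mk' T p s) * Ideal.Quotient.mk _ (σ s)
    rw [← map_mul, IsLocalization.mk'_spec]
  have hreg : IsRegular T (List.ofFn F) := by
    refine CommAlgDim.isRegular_of_dim (CommAlgDim.isCM_of_isRegularLocalRing T) (fun r hr => ?_) ?_
    · obtain ⟨i, rfl⟩ := List.mem_ofFn.1 hr
      exact hFM (Ideal.subset_span ⟨i, rfl⟩)
    · have hlist : Ideal.ofList (List.ofFn F) = Ideal.span (Set.range F) := by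
        rw [Ideal.ofList]; exact congrArg _ (Set.ext fun x => by simp [List.mem_ofFn])
      have : Ring.KrullDimLE 0 R := (isArtinianRing_iff_krullDimLE_zero (R := R)).1 inferInstance
      have h0 : ringKrullDim R = 0 :=
        le_antisymm (Ring.krullDimLE_iff.1 this) ringKrullDim_nonneg_of_nontrivial
      rw [List.length_ofFn, congrArg (fun J : Ideal T => ringKrullDim (T ⧸ J)) hlist, h0]
      simpa using hdim
  have hexact : IsExactK F := by
    have h := KRLib.isExactK_of_isWeaklyRegular (List.ofFn F) hreg.toIsWeaklyRegular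
    have h' := KRLib.isExactK_cast (g := F) h (List.length_ofFn) (fun i => (List.get_ofFn F i).symm)
    exact h'
  obtain ⟨y, hy0, hy⟩ := exists_notMem_mul_maximalIdeal (S := R)
  obtain ⟨y, rfl⟩ := Ideal.Quotient.mk_surjective y
  have hcT : ∀ i, F i = ∑ j, (c.map σ) i j * G j := fun i => by
    show σ (f i) = _
    rw [hc i, map_sum]
    exact Finset.sum_congr rfl fun j _ => by rw [map_mul]; rfl
  obtain ⟨e, he⟩ := exists_det_mul_sub_mem hexact (c.map σ) hcT y (fun x hx => by
    rw [hGspan] at hx
    refine Ideal.Quotient.eq_zero_iff_mem.1 ?_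
    rw [map_mul]
    refine hy _ ?_
    rw [show maximalIdeal R = (maximalIdeal T).map (Ideal.Quotient.mk (Ideal.span (Set.range F))) from
      (IsLocalRing.map_maximalIdeal_of_surjective _ Ideal.Quotient.mk_surjective).symm]
    exact Ideal.mem_map_of_mem _ hx)
  intro hdet
  apply hy0
  rw [Ideal.Quotient.eq_zero_iff_mem]
  have hd : (c.map σ).det ∈ Ideal.span (Set.range F) := by
    rw [← hspanF, show (c.map σ).det = σ c.det from (RingHom.map_det σ c).symm]
    exact Ideal.mem_map_of_mem σ hdet
  have := Ideal.sub_mem _ (Ideal.mul_mem_left _ e hd) he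
  simpa using this

end TateLib
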